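import Cfsg.Agent.Lib.Thompson.QuadApply
import Cfsg.Agent.Lib.Coprime.SchurZassenhaus
import Cfsg.Agent.SylowNum.Decomp

/-!
A `p`-element `b` of a `p`-solvable group `M` which lies in `O_{p',p}⟨b, g⟩` for every `g`
lies in `O_{p',p}(M)`.
-/

set_option autoImplicit false
set_option linter.unusedVariables false
set_option linter.style.haveILetI false

namespace Cfsg.Agent.Powell56

open Cfsg

namespace FlavellAux

variable {M : Type*} [Group M] {p : ℕ}

/-- The smallest subgroup containing `x` invariant under conjugation by `c`. -/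
def orb (c x : M) : Subgroup M :=
  Subgroup.closure (Set.range fun i : ℕ => c ^ i * x * (c ^ i)⁻¹)

theorem mem_orb (c x : M) : x ∈ orb c x :=
  Subgroup.subset_closure ⟨0, by simp⟩

theorem pow_conj_mem {c : M} {H : Subgroup M} (h : ∀ u ∈ H, c * u * c⁻¹ ∈ H) (i : ℕ) :
    ∀ u ∈ H, c ^ i * u * (c ^ i)⁻¹ ∈ H := by
  induction i with
  | zero => intro u hu; simpa using hu
  | succ i ih =>
    intro u hu
    have := h _ (ih u hu)
    rw [pow_succ']
    simpa [mul_assoc] using this

theorem orb_le {c x : M} {H : Subgroup M} (hx : x ∈ H) (h : ∀ u ∈ H, c * u * c⁻¹ ∈ H) :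
    orb c x ≤ H := by
  rw [orb, Subgroup.closure_le]
  rintro _ ⟨i, rfl⟩
  exact pow_conj_mem h i x hx

theorem conj_mem_orb (c x : M) : ∀ u ∈ orb c x, c * u * c⁻¹ ∈ orb c x := by
  intro u hu
  have hle : orb c x ≤ (orb c x).comap ((MulAut.conj c).toMonoidHom) := by
    rw [orb, Subgroup.closure_le]
    rintro _ ⟨i, rfl⟩
    refine Subgroup.subset_closure ⟨i + 1, ?_⟩
    simp [pow_succ', mul_assoc]
  simpa using hle hu

theorem map_orb {M' : Type*} [Group M'] (f : M →* M') (c x : M) :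
    (orb c x).map f = orb (f c) (f x) := by
  rw [orb, MonoidHom.map_closure, orb, ← Set.range_comp]
  congr 1
  ext z
  simp [Function.comp]

theorem inv_conj_mem [Finite M] {c : M} {H : Subgroup M} (h : ∀ u ∈ H, c * u * c⁻¹ ∈ H) :
    ∀ u ∈ H, c⁻¹ * u * c ∈ H := by
  intro u hu
  have h1 := pow_conj_mem h (orderOf c - 1) u hu
  have h2 : c ^ (orderOf c - 1) = c⁻¹ := by
    apply eq_inv_of_mul_eq_one_left
    rw [← pow_succ, Nat.sub_add_cancel (orderOf_pos c), pow_orderOf_eq_one]
  simpa [h2] using h1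

theorem map_pPrimePCore_le [Finite M] {M' : Type*} [Group M'] [Finite M'] (f : M →* M')
    (hf : Function.Surjective f) : (pPrimePCore p M).map f ≤ pPrimePCore p M' := by
  rintro _ ⟨x, hx, rfl⟩
  let g : M ⧸ pPrimeCore p M →* M' ⧸ pPrimeCore p M' :=
    QuotientGroup.map _ _ f (Subgroup.map_le_iff_le_comap.mp
      (Thompson.map_pPrimeCore_le_of_surjective f hf))
  have hg : Function.Surjective g := by
    intro y
    obtain ⟨z, rfl⟩ := QuotientGroup.mk'_surjective _ y
    obtain ⟨w, rfl⟩ := hf z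
    exact ⟨QuotientGroup.mk' _ w, rfl⟩
  exact Thompson.map_pCore_le_of_surjective g hg ⟨_, hx, rfl⟩

theorem mem_pPrimeCore_of_mem [Finite M] [Fact p.Prime] {x : M} (hx : x ∈ pPrimePCore p M)
    (ho : (orderOf x).Coprime p) : x ∈ pPrimeCore p M := by
  rw [← QuotientGroup.eq_one_iff]
  have hx' : QuotientGroup.mk' (pPrimeCore p M) x ∈ pCore p (M ⧸ pPrimeCore p M) := hx
  obtain ⟨k, hk⟩ := (Thompson.isPGroup_pCore (p := p)) ⟨_, hx'⟩
  have h1 : orderOf (QuotientGroup.mk' (pPrimeCore p M) x) ∣ p ^ k :=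
    orderOf_dvd_of_pow_eq_one (by simpa using congrArg Subtype.val hk)
  have h2 : orderOf (QuotientGroup.mk' (pPrimeCore p M) x) ∣ orderOf x := orderOf_map_dvd _ _
  exact orderOf_eq_one_iff.mp (Nat.eq_one_of_dvd_coprimes (ho.pow_right k) h2 h1)

theorem eq_one_of_mem [Finite M] [Fact p.Prime] {V : Subgroup M} (hV : IsPGroup p V) {x : M}
    (hx : x ∈ V) (ho : (orderOf x).Coprime p) : x = 1 := by
  obtain ⟨k, hk⟩ := hV ⟨x, hx⟩
  have h1 : orderOf x ∣ p ^ k := orderOf_dvd_of_pow_eq_one (by simpa using congrArg Subtype.val hk)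
  exact orderOf_eq_one_iff.mp (Nat.eq_one_of_dvd_coprimes (ho.pow_right k) (dvd_refl _) h1)

/-- An element whose image has order prime to `p` has a lift of order prime to `p`. -/
theorem exists_coprime_lift [Finite M] [hp : Fact p.Prime] {M' : Type*} [Group M'] (f : M →* M')
    (hf : Function.Surjective f) (y : M') (hy : (orderOf y).Coprime p) :
    ∃ q : M, f q = y ∧ (orderOf q).Coprime p := by
  obtain ⟨x, rfl⟩ := hf y
  obtain ⟨a, m, hm, ham⟩ :=
    Nat.exists_eq_pow_mul_and_not_dvd (orderOf_pos x).ne' p hp.out.ne_one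
  obtain ⟨j, hj⟩ := exists_pow_eq_self_of_coprime (x := f x) (n := p ^ a) (hy.pow_right a).symm
  refine ⟨(x ^ p ^ a) ^ j, by rw [map_pow, map_pow, hj], ?_⟩
  have h1 : ((x ^ p ^ a) ^ j) ^ m = 1 := by
    rw [← pow_mul, mul_comm j m, pow_mul, ← pow_mul x, ← ham, pow_orderOf_eq_one, one_pow]
  exact ((hp.out.coprime_iff_not_dvd).mpr hm).symm.coprime_dvd_left (orderOf_dvd_of_pow_eq_one h1)

theorem eq_top_of_sylows {H : Type*} [Group H] [Finite H] (K : Subgroup H)
    (h : ∀ r : ℕ, r.Prime → ∃ R : Sylow r H, (R : Subgroup H) ≤ K) : K = ⊤ := by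
  rw [← Subgroup.index_eq_one]
  by_contra hne
  obtain ⟨r, hr, hdvd⟩ := Nat.exists_prime_and_dvd hne
  haveI := Fact.mk hr
  obtain ⟨R, hR⟩ := h r hr
  exact R.not_dvd_index (hdvd.trans (Subgroup.index_dvd_of_le hR))

theorem card_map_mk [Finite M] [Fact p.Prime] {V : Subgroup M} [V.Normal] (hV : IsPGroup p V)
    {Q : Subgroup M} (hQ : (Nat.card Q).Coprime p) :
    Nat.card (Q.map (QuotientGroup.mk' V)) = Nat.card Q := by
  rw [← Thompson.relIndex_eq_card_map_mk', ← Subgroup.inf_relIndex_right,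
    Thompson.inf_eq_bot_of_isPGroup_of_coprime hV hQ, Subgroup.relIndex_bot_left]

theorem eq_of_mk_eq [Finite M] [Fact p.Prime] {V : Subgroup M} [V.Normal] (hV : IsPGroup p V)
    {Q : Subgroup M} (hQ : (Nat.card Q).Coprime p) {a c : M} (ha : a ∈ Q) (hc : c ∈ Q)
    (h : QuotientGroup.mk' V a = QuotientGroup.mk' V c) : a = c :=
  inv_mul_eq_one.mp (eq_one_of_mem hV (QuotientGroup.eq.mp h)
    (hQ.coprime_dvd_left (Subgroup.orderOf_dvd_natCard _ (Q.mul_mem (Q.inv_mem ha) hc))))

/-- The statement for `O_{p'}(M) = 1`. -/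
theorem mem_pCore_of_forall [Finite M] [hp : Fact p.Prime] (hM : IsPSolvable p M)
    (hO : pPrimeCore p M = ⊥) (b : M) (hb : ∃ n : ℕ, orderOf b = p ^ n)
    (h : ∀ g : M, (⟨b, Subgroup.subset_closure (Set.mem_insert b {g})⟩ :
      ↥(Subgroup.closure ({b, g} : Set M))) ∈ pPrimePCore p ↥(Subgroup.closure ({b, g} : Set M))) :
    b ∈ pCore p M := by
  by_contra hbV
  have hHH := Thompson.centralizer_pCore_le hM hO
  have hV : IsPGroup p (pCore p M) := Thompson.isPGroup_pCore
  set V := pCore p M with hVdef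
  set π := QuotientGroup.mk' V with hπdef
  have hπs : Function.Surjective π := QuotientGroup.mk'_surjective V
  have hπV : ∀ x ∈ V, π x = 1 := fun x hx => (QuotientGroup.eq_one_iff x).mpr hx
  obtain ⟨n, hn⟩ := hb
  have hβn : π b ^ p ^ n = 1 := by rw [← map_pow, ← hn, pow_orderOf_eq_one, map_one]
  -- the moved invariant subgroup of `O_{p'}(M / V)`
  have hSQ : IsPSolvable p (M ⧸ V) := Thompson.isPSolvable_quotient V hM
  set N := pPrimeCore p (M ⧸ V) with hN
  have hNc : (Nat.card N).Coprime p := Thompson.card_pPrimeCore_coprime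
  have hmoved : ∃ R : Subgroup (M ⧸ V), R ≤ N ∧ (∀ u ∈ R, π b * u * (π b)⁻¹ ∈ R) ∧
      ∃ u ∈ R, π b * u * (π b)⁻¹ ≠ u := by
    by_contra hno
    push Not at hno
    have hall : ∀ u ∈ N, π b * u * (π b)⁻¹ = u := by
      let C : Subgroup N := (Subgroup.centralizer {π b}).subgroupOf N
      have hC : C = ⊤ := by
        refine eq_top_of_sylows C fun r hr => ?_
        haveI := Fact.mk hr
        have hP : IsPGroup p (Subgroup.zpowers (π b)) := by
          refine IsPGroup.of_card (n := Nat.log p (Nat.card (Subgroup.zpowers (π b)))) ?_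
          rw [Nat.card_zpowers]
          obtain ⟨j, -, hj⟩ :=
            (Nat.dvd_prime_pow hp.out).mp (orderOf_dvd_of_pow_eq_one hβn)
          rw [hj, Nat.log_pow hp.out.one_lt]
        obtain ⟨L, hL⟩ := SylowNum.exists_sylow_normalized (Subgroup.zpowers (π b)) N hP
          (Subgroup.normalizer_eq_top N ▸ le_top) Thompson.not_dvd_card_pPrimeCore r
        refine ⟨L, fun u hu => ?_⟩
        have hfix := hno ((L : Subgroup N).map N.subtype) (Subgroup.map_subtype_le _)
          (fun w hw => (Subgroup.mem_normalizer_iff.mp (hL (Subgroup.mem_zpowers _)) w).mp hw)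
          (u : M ⧸ V) ⟨u, hu, rfl⟩
        show (u : M ⧸ V) ∈ Subgroup.centralizer {π b}
        rw [Subgroup.mem_centralizer_singleton_iff]
        exact (mul_inv_eq_iff_eq_mul.mp hfix).symm
      intro u hu
      have hu' : (⟨u, hu⟩ : N) ∈ C := hC ▸ Subgroup.mem_top _
      have hu'' : u ∈ Subgroup.centralizer {π b} := hu'
      rw [Subgroup.mem_centralizer_singleton_iff] at hu''
      rw [← hu'', mul_inv_cancel_right]
    have hbN : π b ∈ N := by
      refine Thompson.centralizer_pPrimeCore_le hSQ ?_ ?_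
      · exact Thompson.pCore_quotient_pCore
      · rw [Subgroup.mem_centralizer_iff]
        intro u hu
        exact (mul_inv_eq_iff_eq_mul.mp (hall u hu)).symm
    apply hbV
    show b ∈ V
    rw [← QuotientGroup.eq_one_iff]
    exact orderOf_eq_one_iff.mp (Nat.eq_one_of_dvd_coprimes (hNc.pow_right n)
      (Subgroup.orderOf_dvd_natCard _ hbN) (orderOf_dvd_of_pow_eq_one hβn))
  obtain ⟨R, ⟨hRN, hRinv, y, hyR, hyne⟩, hRmin⟩ := exists_minimal_of_wellFoundedLT _ hmoved
  have hRc : (Nat.card R).Coprime p := hNc.coprime_dvd_left (Subgroup.card_dvd_of_le hRN)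
  have hgen : ∀ u ∈ R, π b * u * (π b)⁻¹ ≠ u → orb (π b) u = R := fun u hu hne =>
    le_antisymm (orb_le hu hRinv) (hRmin ⟨(orb_le hu hRinv).trans hRN, conj_mem_orb _ _,
      u, mem_orb _ _, hne⟩ (orb_le hu hRinv))
  -- a commutator of a moved element is moved
  have hz : ∀ u ∈ R, π b * u * (π b)⁻¹ ≠ u →
      π b * (u⁻¹ * (π b * u * (π b)⁻¹)) * (π b)⁻¹ ≠ u⁻¹ * (π b * u * (π b)⁻¹) := by
    intro u hu hne hfix
    set z := u⁻¹ * (π b * u * (π b)⁻¹) with hzdef
    have hpow : ∀ i : ℕ, π b ^ i * u * (π b ^ i)⁻¹ = u * z ^ i := by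
      intro i
      induction i with
      | zero => simp
      | succ i ih =>
        calc π b ^ (i + 1) * u * (π b ^ (i + 1))⁻¹
            = π b * (π b ^ i * u * (π b ^ i)⁻¹) * (π b)⁻¹ := by
              simp [pow_succ', mul_assoc]
          _ = (π b * u * (π b)⁻¹) * (π b * z * (π b)⁻¹) ^ i := by
              rw [ih, conj_pow]; simp [mul_assoc]
          _ = u * z ^ (i + 1) := by
              rw [hfix, show π b * u * (π b)⁻¹ = u * z by simp [hzdef]]
              rw [pow_succ', mul_assoc]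
    have h1 : z ^ p ^ n = 1 := by
      have := hpow (p ^ n)
      rw [hβn] at this
      simpa using this.symm
    have hzR : z ∈ R := R.mul_mem (R.inv_mem hu) (hRinv u hu)
    have h2 : z = 1 := orderOf_eq_one_iff.mp (Nat.eq_one_of_dvd_coprimes (hRc.pow_right n)
      (Subgroup.orderOf_dvd_natCard _ hzR) (orderOf_dvd_of_pow_eq_one h1))
    exact hne (inv_mul_eq_one.mp h2).symm
  obtain ⟨q, hq, hqo⟩ := exists_coprime_lift (p := p) π hπs y
    (hRc.coprime_dvd_left (Subgroup.orderOf_dvd_natCard _ hyR))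
  -- `orb b a` lies in `O_{p'}⟨b, g⟩` when `a` does
  have key : ∀ a g : M, π a = y → (orderOf a).Coprime p → a ∈ Subgroup.closure ({b, g} : Set M) →
      orb b a ≤ (pPrimeCore p ↥(Subgroup.closure ({b, g} : Set M))).map
        (Subgroup.closure ({b, g} : Set M)).subtype := by
    intro a g ha hao haY
    set Y := Subgroup.closure ({b, g} : Set M) with hY
    have hbY : b ∈ Y := Subgroup.subset_closure (Set.mem_insert b {g})
    let f : ↥Y →* M ⧸ V := π.comp Y.subtype
    set P := pPrimePCore p ↥Y with hP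
    have hbP : (⟨b, hbY⟩ : Y) ∈ P := h g
    haveI : P.Normal := Thompson.instPPrimePCoreNormal
    have hT : ∀ u ∈ P.map f, π b * u * (π b)⁻¹ ∈ P.map f := by
      rintro _ ⟨w, hw, rfl⟩
      exact ⟨_, Subgroup.Normal.conj_mem inferInstance w hw ⟨b, hbY⟩, by simp [f]⟩
    have hzT : y⁻¹ * (π b * y * (π b)⁻¹) ∈ P.map f := by
      refine ⟨(⟨a, haY⟩ : Y)⁻¹ * ⟨b, hbY⟩ * ⟨a, haY⟩ * (⟨b, hbY⟩ : Y)⁻¹, ?_, ?_⟩
      · refine P.mul_mem ?_ (P.inv_mem hbP)
        simpa using Subgroup.Normal.conj_mem inferInstance _ hbP (⟨a, haY⟩ : Y)⁻¹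
      · simp [f, ha, mul_assoc]
    have hzR : y⁻¹ * (π b * y * (π b)⁻¹) ∈ R := R.mul_mem (R.inv_mem hyR) (hRinv y hyR)
    have hyT : y ∈ P.map f := orb_le hzT hT ((hgen _ hzR (hz y hyR hyne)).ge hyR)
    obtain ⟨w, hw, hwy⟩ := hyT
    have hVP : ∀ u : Y, (u : M) ∈ V → u ∈ P := fun u hu =>
      Thompson.pCore_le_pPrimePCore (Thompson.subgroupOf_pCore_le Y hu)
    have haP : (⟨a, haY⟩ : Y) ∈ P := by
      have h1 : w⁻¹ * ⟨a, haY⟩ ∈ P := hVP _ (by
        have : π ((w : M)⁻¹ * a) = 1 := by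
          rw [map_mul, map_inv, ha, ← hwy]; simp [f]
        simpa using (QuotientGroup.eq_one_iff _).mp this)
      simpa using P.mul_mem hw h1
    refine orb_le ⟨⟨a, haY⟩, mem_pPrimeCore_of_mem haP (by rwa [Subgroup.orderOf_mk]), rfl⟩ ?_
    rintro _ ⟨u, hu, rfl⟩
    exact ⟨_, (inferInstance : (pPrimeCore p ↥Y).Normal).conj_mem u hu ⟨b, hbY⟩, rfl⟩
  have hQc : ∀ a : M, π a = y → (orderOf a).Coprime p → (Nat.card (orb b a)).Coprime p := by
    intro a ha hao
    exact (Thompson.card_pPrimeCore_coprime.coprime_dvd_left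
      (Subgroup.card_map_dvd _ _)).coprime_dvd_left (Subgroup.card_dvd_of_le
        (key a a ha hao (Subgroup.subset_closure (Set.mem_insert_of_mem b rfl))))
  have hQmap : ∀ a : M, π a = y → (orb b a).map π = R := by
    intro a ha
    rw [map_orb, ha]
    exact hgen y hyR hyne
  -- centralising `q` in `V` is centralising `orb b q`
  have hcent : ∀ w ∈ V, w * q = q * w → ∀ x ∈ orb b q, w * x = x * w := by
    intro w hw hwq x hx
    obtain ⟨k, hk⟩ := hV ⟨w, hw⟩
    have hk' : w ^ p ^ k = 1 := by simpa using congrArg Subtype.val hk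
    set Y := Subgroup.closure ({b, q * w} : Set M) with hY
    have hgY : q * w ∈ Y := Subgroup.subset_closure (Set.mem_insert_of_mem b rfl)
    have hqY : q ∈ Y := by
      have h1 : q ^ p ^ k ∈ Y := by
        have := Y.pow_mem hgY (p ^ k)
        rwa [(Commute.mul_pow (show Commute q w from hwq.symm)), hk', mul_one] at this
      obtain ⟨j, hj⟩ := exists_pow_eq_self_of_coprime (x := q) (n := p ^ k) (hqo.pow_right k).symm
      rw [← hj]
      exact Y.pow_mem h1 j
    have hwY : w ∈ Y := by simpa using Y.mul_mem (Y.inv_mem hqY) hgY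
    obtain ⟨u, hu, rfl⟩ := key q (q * w) hq hqo hqY hx
    have hw' : (⟨w, hwY⟩ : Y) ∈ pCore p ↥Y := Thompson.subgroupOf_pCore_le Y hw
    exact congrArg Subtype.val
      (Subgroup.mem_centralizer_iff.mp (Thompson.pPrimeCore_le_centralizer_pCore hu) _ hw')
  have hQq := hQc q hq hqo
  -- every conjugate of `orb b q` by an element of `V` is `b`-invariant
  have hfix : ∀ v ∈ V, ∀ x ∈ orb b q, v⁻¹ * (b * v * b⁻¹) * x = x * (v⁻¹ * (b * v * b⁻¹)) := by
    intro v hv
    set q' := v * q * v⁻¹ with hq'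
    have hπq' : π q' = y := by simp [hq', hπV v hv, hq]
    have hq'o : (orderOf q').Coprime p := by
      have : orderOf q' = orderOf q := by
        rw [hq']; exact (SemiconjBy.conj_mk v q).orderOf_eq.symm
      rwa [this]
    have hQ' := hQc q' hπq' hq'o
    haveI : Group.IsNilpotent ↥V := hV.isNilpotent
    have hcV : ∀ H : Subgroup M, (Nat.card H).Coprime p → (Nat.card H).Coprime (Nat.card V) := by
      intro H hH
      obtain ⟨k, hk⟩ := IsPGroup.iff_card.mp hV
      rw [hk]; exact hH.pow_right k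
    have hVn : ∀ H : Subgroup M, H ≤ Subgroup.normalizer (V : Set M) := fun H =>
      Subgroup.normalizer_eq_top V ▸ le_top
    have hle : orb b q' ≤ V ⊔ orb b q := by
      intro x hx
      have : π x ∈ (orb b q).map π := by
        rw [hQmap q hq, ← hQmap q' hπq']; exact Subgroup.mem_map_of_mem _ hx
      obtain ⟨u, hu, hux⟩ := this
      have h1 : x * u⁻¹ ∈ V := (QuotientGroup.eq_one_iff _).mp
        (show π (x * u⁻¹) = 1 by rw [map_mul, map_inv, hux, mul_inv_cancel])
      simpa using Subgroup.mul_mem_sup h1 hu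
    obtain ⟨m, hm, hmQ⟩ := Coprime.exists_conj_le V (orb b q') (orb b q) (hVn _) (hVn _) hle
      (hcV _ hQ') (hcV _ hQq) (Or.inr inferInstance)
    have hmq : (m * v) * q * (m * v)⁻¹ = q := by
      refine eq_of_mk_eq hV hQq ?_ (mem_orb _ _) ?_
      · simpa [hq', mul_assoc] using hmQ q' (mem_orb _ _)
      · show π _ = π q
        simp [hπV v hv, hπV m hm]
    have hmc := hcent (m * v) (V.mul_mem hm hv) (mul_inv_eq_iff_eq_mul.mp hmq)
    -- `orb b q' = v (orb b q) v⁻¹`
    have hin : ∀ x ∈ orb b q', v⁻¹ * x * v ∈ orb b q := by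
      intro x hx
      have h1 := hmQ x hx
      have h2 : m * v * (v⁻¹ * x * v) = (m * x * m⁻¹) * (m * v) := by group
      rw [← hmc _ h1] at h2
      rw [mul_left_cancel h2]
      exact h1
    have hout : ∀ x ∈ orb b q, v * x * v⁻¹ ∈ orb b q' := by
      have hm2 : (orb b q').map (MulAut.conj m).toMonoidHom = orb b q := by
        refine Subgroup.eq_of_le_of_card_ge ?_ ?_
        · rintro _ ⟨x, hx, rfl⟩
          exact hmQ x hx
        · rw [Subgroup.card_map_of_injective (MulAut.conj m).injective, ← card_map_mk hV hQq,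
            ← card_map_mk hV hQ', ← hπdef, hQmap q hq, hQmap q' hπq']
      intro x hx
      obtain ⟨u, hu, hux⟩ := hm2.ge hx
      have h1 : m * u * m⁻¹ = x := by simpa using hux
      have h2 : m * (v * x * v⁻¹) = x * m := by
        have := hmc x hx
        calc m * (v * x * v⁻¹) = (m * v * x) * v⁻¹ := by group
          _ = (x * (m * v)) * v⁻¹ := by rw [this]
          _ = x * m := by group
      have h3 : v * x * v⁻¹ = u := by
        apply mul_left_cancel (a := m)
        rw [h2, ← h1]; group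
      rw [h3]; exact hu
    intro x hx
    have hx0 : b⁻¹ * x * b ∈ orb b q := inv_conj_mem (conj_mem_orb b q) x hx
    have h1 := hin _ (conj_mem_orb b q' _ (hout _ hx0))
    have h2 : v⁻¹ * (b * (v * (b⁻¹ * x * b) * v⁻¹) * b⁻¹) * v
        = (v⁻¹ * (b * v * b⁻¹)) * x * (v⁻¹ * (b * v * b⁻¹))⁻¹ := by group
    rw [h2] at h1
    have hcV' : v⁻¹ * (b * v * b⁻¹) ∈ V :=
      V.mul_mem (V.inv_mem hv) (Subgroup.Normal.conj_mem inferInstance v hv b)
    have h3 := eq_of_mk_eq hV hQq h1 hx (by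
      show π _ = π x
      rw [map_mul, map_mul, map_inv, hπV _ hcV']; simp)
    exact mul_inv_eq_iff_eq_mul.mp h3
  -- `b` centralises `q`
  set q1 := b * q * b⁻¹ with hq1
  set z := q⁻¹ * q1 with hzdef
  have hq1Q : q1 ∈ orb b q := conj_mem_orb b q q (mem_orb _ _)
  have hzQ : z ∈ orb b q := (orb b q).mul_mem ((orb b q).inv_mem (mem_orb _ _)) hq1Q
  have hzo : (orderOf z).Coprime p := hQq.coprime_dvd_left (Subgroup.orderOf_dvd_natCard _ hzQ)
  have hzC : ∀ v ∈ V, v * z = z * v := by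
    intro v hv
    set c := v⁻¹ * (b * v * b⁻¹) with hc
    set u := q * v * q⁻¹ with hu
    have huV : u ∈ V := Subgroup.Normal.conj_mem inferInstance v hv q
    set cu := u⁻¹ * (b * u * b⁻¹) with hcu
    set d := cu * c⁻¹ with hd
    have hdV : d ∈ V := V.mul_mem
      (V.mul_mem (V.inv_mem huV) (Subgroup.Normal.conj_mem inferInstance u huV b))
      (V.inv_mem (V.mul_mem (V.inv_mem hv) (Subgroup.Normal.conj_mem inferInstance v hv b)))
    have hdc : ∀ x ∈ orb b q, d * x = x * d := fun x hx =>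
      ((show Commute cu x from hfix u huV x hx).mul_left
        (show Commute c x from hfix v hv x hx).inv_left).eq
    have hq1c : c * q1 = q1 * c := hfix v hv q1 hq1Q
    have hstep : z * v * z⁻¹ = v * d := by
      have e1 : q1 * v * q1⁻¹ = u * d := by
        calc q1 * v * q1⁻¹ = q1 * (v * c) * (c⁻¹ * q1⁻¹) := by group
          _ = q1 * (v * c) * (q1⁻¹ * c⁻¹) := by
              rw [((show Commute c q1 from hq1c).inv_inv).eq]
          _ = (b * u * b⁻¹) * c⁻¹ := by rw [hq1, hu, hc]; group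
          _ = u * d := by rw [hd, hcu]; group
      calc z * v * z⁻¹ = q⁻¹ * (q1 * v * q1⁻¹) * q := by rw [hzdef]; group
        _ = q⁻¹ * u * (d * q) := by rw [e1]; group
        _ = q⁻¹ * u * (q * d) := by rw [hdc q (mem_orb _ _)]
        _ = v * d := by rw [hu]; group
    have hpow : ∀ i : ℕ, z ^ i * v * (z ^ i)⁻¹ = v * d ^ i := by
      intro i
      induction i with
      | zero => simp
      | succ i ih =>
        calc z ^ (i + 1) * v * (z ^ (i + 1))⁻¹ = z * (z ^ i * v * (z ^ i)⁻¹) * z⁻¹ := by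
              simp [pow_succ', mul_assoc]
          _ = z * v * z⁻¹ * (z * d * z⁻¹) ^ i := by rw [ih, conj_pow]; group
          _ = v * d ^ (i + 1) := by
              rw [hstep, ← hdc z hzQ, mul_inv_cancel_right, pow_succ', mul_assoc]
    have hdn : d ^ orderOf z = 1 := by
      have := hpow (orderOf z)
      rw [pow_orderOf_eq_one] at this
      simpa using this.symm
    have hd1 : d = 1 := eq_one_of_mem hV hdV (hzo.coprime_dvd_left (orderOf_dvd_of_pow_eq_one hdn))
    rw [hd1, mul_one] at hstep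
    exact (mul_inv_eq_iff_eq_mul.mp hstep).symm
  have hzV : z ∈ V := hHH (Subgroup.mem_centralizer_iff.mpr fun v hv => hzC v hv)
  have hz1 : z = 1 := eq_one_of_mem hV hzV hzo
  apply hyne
  rw [← hq, ← map_inv, ← map_mul, ← map_mul, ← hq1, ← inv_mul_eq_one.mp hz1]

end FlavellAux

open FlavellAux in
/-- A `p`-element `b` of a `p`-solvable group with `b ∈ O_{p',p}⟨b, g⟩` for all `g` lies in
`O_{p',p}`. -/
theorem mem_pPrimePCore_of_forall {M : Type*} [Group M] [Finite M] {p : ℕ} [Fact p.Prime]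
    (hM : Cfsg.IsPSolvable p M) (b : M) (hb : ∃ n : ℕ, orderOf b = p ^ n)
    (h : ∀ g : M, (⟨b, Subgroup.subset_closure (Set.mem_insert b {g})⟩ :
      ↥(Subgroup.closure ({b, g} : Set M))) ∈
        Cfsg.pPrimePCore p ↥(Subgroup.closure ({b, g} : Set M))) :
    b ∈ Cfsg.pPrimePCore p M := by
  show QuotientGroup.mk' (pPrimeCore p M) b ∈ pCore p (M ⧸ pPrimeCore p M)
  set π := QuotientGroup.mk' (pPrimeCore p M) with hπ
  refine mem_pCore_of_forall (Thompson.isPSolvable_quotient _ hM)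
    Thompson.pPrimeCore_quotient_pPrimeCore (π b) ?_ fun g' => ?_
  · obtain ⟨n, hn⟩ := hb
    obtain ⟨j, -, hj⟩ := (Nat.dvd_prime_pow Fact.out).mp (hn ▸ orderOf_map_dvd π b)
    exact ⟨j, hj⟩
  · obtain ⟨g, rfl⟩ := QuotientGroup.mk'_surjective _ g'
    have hmap : (Subgroup.closure ({b, g} : Set M)).map π = Subgroup.closure {π b, π g} := by
      rw [MonoidHom.map_closure, Set.image_insert_eq, Set.image_singleton]
    let φ : ↥(Subgroup.closure ({b, g} : Set M)) →* ↥(Subgroup.closure {π b, π g}) :=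
      (π.comp (Subgroup.closure ({b, g} : Set M)).subtype).codRestrict _
        fun x => hmap ▸ Subgroup.mem_map_of_mem π x.2
    have hφ : Function.Surjective φ := by
      rintro ⟨w, hw⟩
      obtain ⟨x, hx, rfl⟩ := hmap.ge hw
      exact ⟨⟨x, hx⟩, rfl⟩
    exact map_pPrimePCore_le φ hφ ⟨_, h g, rfl⟩

end Cfsg.Agent.Powell56
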