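import Cfsg.Agent.Powell56.TwoGen
import Cfsg.Agent.Powell56.Flavell
import Cfsg.Agent.Powell56.Sweep
import Cfsg.Agent.Lib.Thompson.Cores

/-!
# Powell: assembly
-/

set_option autoImplicit false
set_option linter.style.haveILetI false

namespace Cfsg.Agent.Powell56

open Subgroup

variable {p : ℕ} [hp : Fact p.Prime]

theorem mem_pPrimePCore_of_injective {X Y : Type*} [Group X] [Finite X] [Group Y] [Finite Y]
    (f : X →* Y) (hf : Function.Injective f) {x : X} (hx : f x ∈ Cfsg.pPrimePCore p Y) :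
    x ∈ Cfsg.pPrimePCore p X := by
  haveI : (Cfsg.pPrimeCore p Y).Normal := Thompson.sSup_normal fun N hN => hN.1
  haveI : (Cfsg.pPrimeCore p X).Normal := Thompson.sSup_normal fun N hN => hN.1
  haveI : (Cfsg.pCore p (Y ⧸ Cfsg.pPrimeCore p Y)).Normal :=
    Thompson.sSup_normal fun N hN => hN.1
  haveI hPY : (Cfsg.pPrimePCore p Y).Normal :=
    Normal.comap inferInstance (QuotientGroup.mk' (Cfsg.pPrimeCore p Y))
  set N := (Cfsg.pPrimePCore p Y).comap f with hN
  have hle : (Cfsg.pPrimeCore p Y).comap f ≤ Cfsg.pPrimeCore p X := by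
    refine Thompson.le_pPrimeCore (Normal.comap inferInstance f) ?_
    refine (Thompson.card_pPrimeCore_coprime (p := p) (G := Y)).coprime_dvd_left ?_
    rw [← Subgroup.card_map_of_injective hf]
    exact card_dvd_of_le (map_comap_le _ _)
  have hmap : N.map (QuotientGroup.mk' (Cfsg.pPrimeCore p X)) ≤ Cfsg.pCore p _ := by
    refine Thompson.le_pCore ((Normal.comap hPY f).map _ (QuotientGroup.mk'_surjective _)) ?_
    rintro ⟨_, n, hn, rfl⟩
    obtain ⟨i, hi⟩ := Thompson.isPGroup_pCore (p := p) (G := Y ⧸ Cfsg.pPrimeCore p Y) ⟨_, hn⟩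
    refine ⟨i, Subtype.ext ?_⟩
    show QuotientGroup.mk' (Cfsg.pPrimeCore p X) n ^ p ^ i = 1
    rw [← map_pow, QuotientGroup.mk'_apply, QuotientGroup.eq_one_iff]
    refine hle ?_
    rw [mem_comap, map_pow]
    exact (QuotientGroup.eq_one_iff _).1 (congrArg Subtype.val hi)
  exact hmap (mem_map_of_mem _ hx)

theorem ser_le_pPrimePCore {G : Type*} [Group G] [Finite G] {H : Subgroup G} {k : ℕ}
    (hk : Even k) (hbot : ser p H (k + 3) = ⊥) {x : G} (hx : x ∈ ser p H (k + 1)) :
    (⟨x, ser_le H _ hx⟩ : ↥H) ∈ Cfsg.pPrimePCore p ↥H := by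
  haveI : (Cfsg.pPrimeCore p ↥H).Normal := Thompson.sSup_normal fun N hN => hN.1
  set π := QuotientGroup.mk' (Cfsg.pPrimeCore p ↥H) with hπ
  have hnorm : ∀ j, (ser p (⊤ : Subgroup ↥H) j).Normal := fun j => ⟨fun y hy g =>
    conj_mem_ser (H := (⊤ : Subgroup ↥H)) (by rw [normalizer_eq_top]; exact mem_top g) hy⟩
  have hmapser : ∀ j, (ser p (⊤ : Subgroup ↥H) j).map H.subtype = ser p H j := fun j => by
    rw [map_ser, ← MonoidHom.range_eq_map, Subgroup.range_subtype]
  have h3 : ser p (⊤ : Subgroup ↥H) (k + 3) = ⊥ := by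
    rw [← Subgroup.map_eq_bot_iff_of_injective _ H.subtype_injective, hmapser, hbot]
  have hx' : (⟨x, ser_le H _ hx⟩ : ↥H) ∈ ser p (⊤ : Subgroup ↥H) (k + 1) := by
    rw [← hmapser] at hx
    obtain ⟨y, hy, hyx⟩ := hx
    exact Subtype.ext (a2 := ⟨x, _⟩) hyx ▸ hy
  have hC : ser p (⊤ : Subgroup ↥H) (k + 2) ≤ Cfsg.pPrimeCore p ↥H := by
    refine Thompson.le_pPrimeCore (hnorm _) ((hp.out.coprime_iff_not_dvd.2 ?_).symm)
    refine (card_of_kind fun y hy => kind_of_ser_eq_bot h3 hy).2 ?_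
    simp [Nat.even_add_one, hk]
  have hbot2 : ser p ((⊤ : Subgroup ↥H).map π) (k + 2) = ⊥ := by
    rw [← map_ser, Subgroup.map_eq_bot_iff, hπ, QuotientGroup.ker_mk']
    exact hC
  have hp' : IsPGroup p ↥((ser p (⊤ : Subgroup ↥H) (k + 1)).map π) := by
    refine IsPGroup.iff_card.2 ((card_of_kind (k := k + 2) fun y hy => ?_).1
      (hk.add even_two))
    rw [map_ser] at hy
    exact kind_of_ser_eq_bot (k := k + 1) hbot2 hy
  exact Thompson.le_pCore ((hnorm _).map π (QuotientGroup.mk'_surjective _)) hp'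
    (mem_map_of_mem π hx')

theorem exists_move {G : Type*} [Group G] [Finite G] (S : Sylow p G) (P' : Subgroup G)
    (hP' : closure {x : G | x ∈ P' ∧ ¬ p ∣ orderOf x} = ⊤) (hdvd : p ∣ Nat.card G) :
    ∃ x g : G, (∃ n, orderOf x = p ^ n) ∧ g * x * g⁻¹ ≠ x ∧
      IsPGroup p ↥(closure ({x, g * x * g⁻¹} : Set G)) := by
  by_contra hcon
  push Not at hcon
  have hP : normalizer ((S : Subgroup G) : Set G) ≤ centralizer ((S : Subgroup G) : Set G) := by
    intro g hg
    rw [mem_centralizer_iff]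
    intro x hx
    by_contra hne
    have hxp : ∃ n, orderOf x = p ^ n := by
      obtain ⟨i, hi⟩ := S.2 ⟨x, hx⟩
      obtain ⟨l, -, hl⟩ := (Nat.dvd_prime_pow hp.out).1
        (orderOf_dvd_of_pow_eq_one (show x ^ p ^ i = 1 from congrArg Subtype.val hi))
      exact ⟨l, hl⟩
    have hgx : g * x * g⁻¹ ≠ x := fun h => hne (by
      calc x * g = g * x * g⁻¹ * g := by rw [h]
        _ = g * x := by group)
    refine hcon x g hxp hgx (S.2.to_le ((closure_le _).2 ?_))
    rintro y (rfl | rfl)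
    · exact hx
    · exact (mem_normalizer_iff.1 hg x).1 hx
  set f := MonoidHom.transferSylow S hP with hf
  have hker : f.ker = ⊤ := by
    rw [eq_top_iff, ← hP', closure_le]
    intro x hx
    refine orderOf_eq_one_iff.1 ?_
    obtain ⟨i, hi⟩ := (IsPGroup.iff_orderOf.1 S.2) (f x)
    rcases Nat.eq_zero_or_pos i with h0 | h0
    · rw [hi, h0, pow_zero]
    · exact absurd ((dvd_pow_self p h0.ne').trans (hi ▸ orderOf_map_dvd f x)) hx.2
  have hbot : (S : Subgroup G) = ⊥ := by
    have h := (MonoidHom.ker_transferSylow_isComplement' S hP).disjoint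
    rw [← hf, hker, top_disjoint] at h
    exact h
  have h1 := S.card_eq_multiplicity
  rw [hbot, card_bot] at h1
  exact Nat.not_dvd_ordCompl hp.out Nat.card_pos.ne' (by rw [← h1, Nat.div_one]; exact hdvd)

variable {G : Type*} [Group G] [Finite G]

theorem closure_singleton_ne_top (hna : ¬ IsMulCommutative G) (x : G) : zpowers x ≠ ⊤ := fun h =>
  hna ⟨⟨fun a b => by
    obtain ⟨i, rfl⟩ := mem_zpowers_iff.1 (h.ge (mem_top a))
    obtain ⟨j, rfl⟩ := mem_zpowers_iff.1 (h.ge (mem_top b))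
    exact zpow_mul_comm x i j⟩⟩

theorem not_isPSolvable [IsSimpleGroup G] (hna : ¬ IsMulCommutative G) (hdvd : p ∣ Nat.card G) :
    ¬ Cfsg.IsPSolvable p G := fun h => by
  haveI : Nontrivial G := IsSimpleGroup.toNontrivial
  obtain ⟨N, hN, hne, hpure⟩ := Thompson.exists_minimal_step_of_isPSolvable h
  have htop : N = ⊤ := hN.eq_bot_or_eq_top.resolve_left hne
  subst htop
  rcases hpure with hq | hq
  · haveI : Group.IsNilpotent ↥(⊤ : Subgroup G) := hq.isNilpotent
    haveI : Group.IsNilpotent G := Group.nilpotent_of_mulEquiv Subgroup.topEquiv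
    exact hna ⟨⟨fun a b => IsSimpleGroup.comm_iff_isSolvable.2 inferInstance a b⟩⟩
  · rw [card_top] at hq
    exact hp.out.coprime_iff_not_dvd.1 hq.symm hdvd

theorem three_generated [IsSimpleGroup G] (hna : ¬ IsMulCommutative G) (hdvd : p ∣ Nat.card G)
    (hprop : ∀ H : Subgroup G, H ≠ ⊤ → Cfsg.IsPSolvable p ↥H) :
    ∃ x y z : G, Subgroup.closure ({x, y, z} : Set G) = ⊤ := by
  by_contra hcon
  push Not at hcon
  -- the bottom level
  have hbound : ∀ j (H : Subgroup G), H ≠ ⊤ → ser p H (2 * j + 1) ≠ ⊥ →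
      Nat.card ↥(ser p H (2 * j + 1)) + j ≤ Nat.card G := by
    intro j
    induction j with
    | zero => intro H _ _; simpa using card_le_card_group _
    | succ j ih =>
      intro H hH hne
      have hne' : ser p H (2 * j + 1) ≠ ⊥ := fun h => hne (le_bot_iff.1
        (h ▸ (ser_succ_le H _).trans (ser_succ_le H _)))
      have hlt := ser_add_two_lt (hprop H hH) hne'
      have h1 : Nat.card ↥(ser p H (2 * (j + 1) + 1)) < Nat.card ↥(ser p H (2 * j + 1)) :=
        Set.ncard_lt_ncard hlt (Set.toFinite _)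
      have := ih H hH hne'
      omega
  have hex : ∃ j, ∀ H : Subgroup G, H ≠ ⊤ → ser p H (2 * j + 1) = ⊥ :=
    ⟨Nat.card G, fun H hH => by
      by_contra hne
      have := hbound _ H hH hne
      have : 0 < Nat.card ↥(ser p H (2 * Nat.card G + 1)) := Nat.card_pos
      omega⟩
  classical
  set j₀ := Nat.find hex with hj₀
  obtain ⟨b, hb⟩ := exists_prime_orderOf_dvd_card' p hdvd
  have hj₀pos : 0 < j₀ := by
    by_contra h
    have h0 : j₀ = 0 := by omega
    have := Nat.find_spec hex (zpowers b) (closure_singleton_ne_top hna b)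
    rw [← hj₀, h0] at this
    have h1 : b ∈ ser p (zpowers b) (2 * 0 + 1) :=
      mem_ser_succ (mem_zpowers b) ((kind_even (by decide) b).2 ⟨1, by rw [hb, pow_one]⟩)
    rw [this, mem_bot] at h1
    rw [h1, orderOf_one] at hb
    exact hp.out.ne_one hb.symm
  obtain ⟨j, hj⟩ : ∃ j, j₀ = j + 1 := ⟨j₀ - 1, by omega⟩
  have htopbot : ∀ H : Subgroup G, H ≠ ⊤ → ser p H (2 * j + 3) = ⊥ := fun H hH => by
    have := Nat.find_spec hex H hH
    rwa [← hj₀, hj] at this
  obtain ⟨H₀, hH₀, hne₀⟩ : ∃ H : Subgroup G, H ≠ ⊤ ∧ ser p H (2 * j + 1) ≠ ⊥ := by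
    have := Nat.find_min hex (m := j) (by omega)
    push Not at this
    exact this
  have htriple : ∀ x y z : G, closure ({x, y, z} : Set G) ≠ ⊤ := hcon
  have heven : Even (2 * j) := even_two_mul j
  -- good elements
  have hser : ∀ (H : Subgroup G), H ≠ ⊤ → ∀ (x : G) (hxH : x ∈ H), x ∈ ser p H (2 * j + 1) →
      (⟨x, hxH⟩ : ↥H) ∈ Cfsg.pPrimePCore p ↥H := fun H hH x _ hx =>
    ser_le_pPrimePCore heven (htopbot H hH) hx
  suffices hfind : ∃ u₀ g : G, (∃ n, orderOf u₀ = p ^ n) ∧ g * u₀ * g⁻¹ ≠ u₀ ∧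
      IsPGroup p ↥(closure ({u₀, g * u₀ * g⁻¹} : Set G)) ∧
      ∀ (g : G) (H : Subgroup G) (h : g * u₀ * g⁻¹ ∈ H), H ≠ ⊤ →
        (⟨g * u₀ * g⁻¹, h⟩ : ↥H) ∈ Cfsg.pPrimePCore p ↥H by
    obtain ⟨u₀, g, hu, hne, hpair, hgood⟩ := hfind
    refine false_of_good hna (fun x y z => hprop _ (htriple x y z)) u₀ hu
      (fun g' H h hsol => ?_) ⟨g, hne, hpair⟩
    by_cases hH : H = ⊤
    · subst hH
      exfalso
      exact not_isPSolvable hna hdvd (Thompson.isPSolvable_of_equiv Subgroup.topEquiv hsol)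
    · exact hgood g' H h hH
  rcases Nat.eq_zero_or_pos j with rfl | hjpos
  · -- every `p`-element is good
    obtain ⟨S⟩ := (inferInstance : Nonempty (Sylow p G))
    have hgen : closure {x : G | x ∈ (⊤ : Subgroup G) ∧ ¬ p ∣ orderOf x} = ⊤ := by
      have hn : (closure {x : G | x ∈ (⊤ : Subgroup G) ∧ ¬ p ∣ orderOf x}).Normal := ⟨fun x hx g => by
        have h1 := mem_map_of_mem (MulAut.conj g).toMonoidHom hx
        rw [MonoidHom.map_closure] at h1
        refine closure_mono ?_ h1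
        rintro _ ⟨y, hy, rfl⟩
        exact ⟨mem_top _, by rw [orderOf_injective _ (MulAut.conj g).injective]; exact hy.2⟩⟩
      refine hn.eq_bot_or_eq_top.resolve_left fun h => ?_
      refine not_isPSolvable hna hdvd (Thompson.isPSolvable_of_isPGroup fun x => ?_)
      have hn0 : orderOf x ≠ 0 := (orderOf_pos x).ne'
      refine ⟨(orderOf x).factorization p, (Subgroup.closure_eq_bot_iff.1 h) ⟨mem_top _, ?_⟩⟩
      rw [orderOf_pow, Nat.gcd_eq_right (Nat.ordProj_dvd _ p)]
      exact Nat.not_dvd_ordCompl hp.out hn0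
    obtain ⟨x, g, hx, hne, hpair⟩ := exists_move S ⊤ hgen hdvd
    refine ⟨x, g, hx, hne, hpair, fun g' H h hH => hser H hH _ h ?_⟩
    refine mem_ser_succ h ((kind_even (by decide) _).2 ?_)
    rwa [← MulAut.conj_apply, MulEquiv.orderOf_eq]
  · obtain ⟨a, b, hab⟩ := exists_two_gen H₀ (hprop H₀ hH₀) hne₀
    set L := closure ({a, b} : Set G) with hL
    set A := ser p L (2 * j) with hA
    obtain ⟨i, hi⟩ : ∃ i, 2 * j = i + 1 := ⟨2 * j - 1, by omega⟩
    have hiodd : ¬ Even i := by
      intro h; have := hi ▸ heven; simp [Nat.even_add_one, h] at this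
    have hgen : closure {x : ↥A | x ∈ (⊤ : Subgroup ↥A) ∧ ¬ p ∣ orderOf x} = ⊤ := by
      apply map_injective A.subtype_injective
      refine le_antisymm (map_mono le_top) ?_
      rw [← MonoidHom.range_eq_map, Subgroup.range_subtype, MonoidHom.map_closure]
      conv_lhs => rw [hA, hi]
      refine closure_mono fun x hx => ?_
      have hxA : x ∈ A := by rw [hA, hi]; exact subset_closure hx
      exact ⟨⟨x, hxA⟩, ⟨mem_top _, by rw [Subgroup.orderOf_mk]; exact (kind_odd hiodd x).1 hx.2⟩, rfl⟩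
    have hdvdA : p ∣ Nat.card ↥A := by
      obtain ⟨x, hx, hx1⟩ : ∃ x, (x ∈ A ∧ Kind p (2 * j) x) ∧ x ≠ 1 := by
        by_contra h
        push Not at h
        exact hab ((Subgroup.closure_eq_bot_iff).2 fun x hx => h x hx)
      obtain ⟨n, hn⟩ := (kind_even heven x).1 hx.2
      rcases Nat.eq_zero_or_pos n with h0 | h0
      · exact absurd (orderOf_eq_one_iff.1 (by rw [hn, h0, pow_zero])) hx1
      · exact ((dvd_pow_self p h0.ne').trans (dvd_of_eq hn.symm)).trans (orderOf_dvd_natCard A hx.1)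
    obtain ⟨S⟩ := (inferInstance : Nonempty (Sylow p ↥A))
    obtain ⟨x, g, hx, hne, hpair⟩ := exists_move S ⊤ hgen hdvdA
    have hxo : ∃ n, orderOf (x : G) = p ^ n := by rw [Subgroup.orderOf_coe]; exact hx
    have hxser : (x : G) ∈ ser p L (2 * j + 1) :=
      mem_ser_succ x.2 ((kind_even heven _).2 hxo)
    refine ⟨x, g, hxo, fun h => hne (Subtype.ext h), ?_, fun g' H h hH => ?_⟩
    · have := hpair.map A.subtype
      rw [MonoidHom.map_closure, Set.image_pair] at this
      exact this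
    · refine mem_pPrimePCore_of_forall (hprop H hH) _ ?_ fun y => ?_
      · obtain ⟨n, hn⟩ := hxo
        exact ⟨n, by rw [Subgroup.orderOf_mk, ← MulAut.conj_apply, MulEquiv.orderOf_eq]; exact hn⟩
      set c := MulAut.conj g' with hc
      set H' := closure ({c a, c b, (y : G)} : Set G) with hH'
      have hLH : L.map c.toMonoidHom ≤ H' := by
        rw [hL, MonoidHom.map_closure, Set.image_pair]
        exact closure_mono (by intro z hz; rcases hz with rfl | rfl <;> simp)
      have hx' : g' * (x : G) * g'⁻¹ ∈ ser p H' (2 * j + 1) := by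
        refine ser_mono hLH _ ?_
        rw [← map_ser]
        exact ⟨x, hxser, by simp [hc]⟩
      have hxH' := ser_le H' _ hx'
      set X := closure ({(⟨g' * (x : G) * g'⁻¹, h⟩ : ↥H), y} : Set ↥H) with hX
      have hXle : ∀ z ∈ X, (z : G) ∈ H' := fun z hz => by
        refine (closure_le (H'.comap H.subtype)).2 ?_ hz
        rintro w (rfl | rfl)
        · exact hxH'
        · exact subset_closure (by simp)
      let f : ↥X →* ↥H' := (H.subtype.comp X.subtype).codRestrict H' fun z => hXle z z.2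
      refine mem_pPrimePCore_of_injective f (fun z w hzw => ?_) (hser H' (htriple _ _ _) _ hxH' hx')
      have h2 : ((f z : ↥H') : G) = f w := congrArg Subtype.val hzw
      exact Subtype.ext (Subtype.ext h2)

end Cfsg.Agent.Powell56
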