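import Mathlib
import Cfsg.Agent.Lib.Thompson.PSolvable

/-!
# The lower `p`-series by generators

`ser p H (k+1)` is generated by the `p`-elements (`k` even) or `p'`-elements (`k` odd) of `ser p H k`.
-/

set_option autoImplicit false

namespace Cfsg.Agent.Powell56

open Subgroup

variable {G G' : Type*} [Group G] [Group G'] {p : ℕ}

/-- `p`-elements at even steps, `p'`-elements at odd steps. -/
def Kind (p k : ℕ) (x : G) : Prop :=
  if Even k then ∃ n : ℕ, orderOf x = p ^ n else ¬ p ∣ orderOf x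

theorem kind_even {k : ℕ} (hk : Even k) (x : G) :
    Kind p k x ↔ ∃ n : ℕ, orderOf x = p ^ n := by rw [Kind, if_pos hk]

theorem kind_odd {k : ℕ} (hk : ¬ Even k) (x : G) : Kind p k x ↔ ¬ p ∣ orderOf x := by
  rw [Kind, if_neg hk]

theorem kind_add_two (k : ℕ) (x : G) : Kind p (k + 2) x ↔ Kind p k x := by
  simp [Kind, Nat.even_add]

/-- The series. -/
def ser (p : ℕ) (H : Subgroup G) : ℕ → Subgroup G
  | 0 => H
  | k + 1 => Subgroup.closure {x | x ∈ ser p H k ∧ Kind p k x}

@[simp] theorem ser_zero (H : Subgroup G) : ser p H 0 = H := rfl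

theorem mem_ser_succ {H : Subgroup G} {k : ℕ} {x : G} (hx : x ∈ ser p H k) (hk : Kind p k x) :
    x ∈ ser p H (k + 1) := Subgroup.subset_closure ⟨hx, hk⟩

theorem ser_succ_le (H : Subgroup G) (k : ℕ) : ser p H (k + 1) ≤ ser p H k :=
  (Subgroup.closure_le _).2 fun _ hx => hx.1

theorem ser_le (H : Subgroup G) : ∀ k, ser p H k ≤ H
  | 0 => le_rfl
  | k + 1 => (ser_succ_le H k).trans (ser_le H k)

theorem ser_mono {H K : Subgroup G} (h : H ≤ K) : ∀ k, ser p H k ≤ ser p K k
  | 0 => h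
  | k + 1 => Subgroup.closure_mono fun _ hx => ⟨ser_mono h k hx.1, hx.2⟩

/-- A power of `x` whose order divides `c` and which agrees with `x` under `f`. -/
theorem exists_pow_lift (f : G →* G') (x : G) {a c : ℕ} (hac : orderOf x = a * c)
    (hd : Nat.Coprime (orderOf (f x)) a) :
    ∃ j : ℕ, orderOf (x ^ j) ∣ c ∧ f (x ^ j) = f x := by
  obtain ⟨j, hj1, hj0⟩ := Nat.chineseRemainder hd 1 0
  refine ⟨j, orderOf_dvd_of_pow_eq_one ?_, ?_⟩
  · rw [← pow_mul]
    exact orderOf_dvd_iff_pow_eq_one.1 (hac ▸ Nat.mul_dvd_mul_right (Nat.modEq_zero_iff_dvd.1 hj0) c)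
  · rw [map_pow]
    conv_rhs => rw [← pow_one (f x)]
    exact pow_eq_pow_iff_modEq.2 hj1

variable [hp : Fact p.Prime]

theorem kind_one (k : ℕ) : Kind p k (1 : G) := by
  rw [Kind]
  split
  · exact ⟨0, by simp⟩
  · simpa using hp.out.ne_one

theorem kind_map (f : G →* G') {k : ℕ} {x : G} (hx : Kind p k x) : Kind p k (f x) := by
  by_cases hk : Even k
  · rw [kind_even hk] at hx ⊢
    obtain ⟨n, hn⟩ := hx
    obtain ⟨m, -, hm⟩ := (Nat.dvd_prime_pow hp.out).1 (hn ▸ orderOf_map_dvd f x)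
    exact ⟨m, hm⟩
  · rw [kind_odd hk] at hx ⊢
    exact fun h => hx (h.trans (orderOf_map_dvd f x))

theorem eq_one_of_kind {k : ℕ} {x : G} (h1 : Kind p k x) (h2 : Kind p (k + 1) x) : x = 1 := by
  have key : ∀ {y : G}, (∃ n : ℕ, orderOf y = p ^ n) → ¬ p ∣ orderOf y → y = 1 := by
    rintro y ⟨n, hn⟩ h
    rcases Nat.eq_zero_or_pos n with hn0 | hn0
    · exact orderOf_eq_one_iff.1 (by simp [hn, hn0])
    · exact absurd (hn ▸ dvd_pow_self p hn0.ne') h
  by_cases hk : Even k
  · rw [kind_even hk] at h1; rw [kind_odd (by simp [Nat.even_add_one, hk])] at h2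
    exact key h1 h2
  · rw [kind_odd hk] at h1; rw [kind_even (Nat.even_add_one.2 hk)] at h2
    exact key h2 h1

variable [Finite G]

theorem exists_kind_lift (f : G →* G') {k : ℕ} {x : G} (hx : Kind p k (f x)) :
    ∃ j : ℕ, Kind p k (x ^ j) ∧ f (x ^ j) = f x := by
  set n := orderOf x with hn
  have hn0 : n ≠ 0 := (orderOf_pos x).ne'
  by_cases hk : Even k
  · rw [kind_even hk] at hx
    obtain ⟨m, hm⟩ := hx
    obtain ⟨j, hj, hfj⟩ := exists_pow_lift f x (a := n / p ^ n.factorization p)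
      (c := p ^ n.factorization p) (Nat.div_mul_cancel (Nat.ordProj_dvd n p)).symm
      (hm ▸ (Nat.coprime_ordCompl hp.out hn0).pow_left m)
    obtain ⟨i, -, hi⟩ := (Nat.dvd_prime_pow hp.out).1 hj
    exact ⟨j, (kind_even hk _).2 ⟨i, hi⟩, hfj⟩
  · rw [kind_odd hk] at hx
    obtain ⟨j, hj, hfj⟩ := exists_pow_lift f x (a := p ^ n.factorization p)
      (c := n / p ^ n.factorization p) (Nat.mul_div_cancel' (Nat.ordProj_dvd n p)).symm
      ((hp.out.coprime_iff_not_dvd.2 hx).symm.pow_right _)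
    exact ⟨j, (kind_odd hk _).2 fun h =>
      Nat.not_dvd_ordCompl hp.out hn0 (h.trans hj), hfj⟩

/-- The series commutes with homomorphisms. -/
theorem map_ser (f : G →* G') (H : Subgroup G) :
    ∀ k, (ser p H k).map f = ser p (H.map f) k
  | 0 => rfl
  | k + 1 => by
    show (Subgroup.closure _).map f = Subgroup.closure _
    rw [MonoidHom.map_closure, ← map_ser f H k]
    refine le_antisymm (Subgroup.closure_mono ?_) ((Subgroup.closure_le _).2 ?_)
    · rintro _ ⟨x, ⟨hx, hkx⟩, rfl⟩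
      exact ⟨mem_map_of_mem f hx, kind_map f hkx⟩
    · rintro _ ⟨⟨x, hx, rfl⟩, hkx⟩
      obtain ⟨j, hj, hfj⟩ := exists_kind_lift f hkx
      rw [← hfj]
      exact Subgroup.subset_closure ⟨x ^ j, ⟨pow_mem hx j, hj⟩, rfl⟩

theorem conj_mem_ser {H : Subgroup G} {g x : G} (hg : g ∈ normalizer (H : Set G)) {k : ℕ}
    (hx : x ∈ ser p H k) : g * x * g⁻¹ ∈ ser p H k := by
  have h : H.map (MulAut.conj g).toMonoidHom = H := by
    ext y
    constructor
    · rintro ⟨z, hz, rfl⟩
      exact (mem_normalizer_iff.1 hg z).1 hz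
    · intro hy
      exact ⟨g⁻¹ * y * g, (mem_normalizer_iff.1 hg _).2 (by simpa [mul_assoc] using hy),
        by simp [mul_assoc]⟩
  have h1 := mem_map_of_mem (MulAut.conj g).toMonoidHom hx
  rw [map_ser, h] at h1
  exact h1

theorem kind_of_ser_eq_bot {H : Subgroup G} {k : ℕ} (h : ser p H (k + 1) = ⊥) {x : G}
    (hx : x ∈ ser p H k) : Kind p (k + 1) x := by
  set n := orderOf x with hn
  have hn0 : n ≠ 0 := (orderOf_pos x).ne'
  have hno : ∀ j : ℕ, Kind p k (x ^ j) → x ^ j = 1 := fun j hj =>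
    mem_bot.1 (h ▸ mem_ser_succ (pow_mem hx j) hj)
  by_cases hk : Even k
  · rw [kind_odd (by simp [Nat.even_add_one, hk])]
    intro hdvd
    have h1 : orderOf (x ^ (n / p)) = p := orderOf_pow_orderOf_div hn0 hdvd
    have h2 := hno _ ((kind_even hk _).2 ⟨1, by rw [h1, pow_one]⟩)
    rw [h2, orderOf_one] at h1
    exact hp.out.ne_one h1.symm
  · rw [kind_even (Nat.even_add_one.2 hk)]
    have h1 : orderOf (x ^ (p ^ n.factorization p)) = n / p ^ n.factorization p := by
      rw [orderOf_pow, Nat.gcd_eq_right (Nat.ordProj_dvd n p)]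
    have h2 := hno _ ((kind_odd hk _).2 (h1 ▸ Nat.not_dvd_ordCompl hp.out hn0))
    obtain ⟨i, -, hi⟩ := (Nat.dvd_prime_pow hp.out).1 (orderOf_dvd_of_pow_eq_one h2)
    exact ⟨i, hi⟩

/-- A nontrivial `p`-soluble group has a proper normal subgroup with `p`- or `p'`-quotient. -/
theorem exists_proper_normal : ∀ (n : ℕ) (X : Type*) [Group X] [Finite X] [Nontrivial X],
    Nat.card X = n → Cfsg.IsPSolvable p X →
    ∃ (N : Subgroup X) (_ : N.Normal), N ≠ ⊤ ∧
      ∃ k : ℕ, ∀ x : X ⧸ N, Kind p k x := by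
  intro n
  induction n using Nat.strong_induction_on with
  | _ n ih =>
    intro X _ _ _ hn hX
    obtain ⟨N₀, hN₀, hne, hpure⟩ := Thompson.exists_minimal_step_of_isPSolvable hX
    by_cases htop : N₀ = ⊤
    · refine ⟨⊥, inferInstance, bot_ne_top, ?_⟩
      have hker : Function.Surjective (QuotientGroup.mk' (⊥ : Subgroup X)) :=
        QuotientGroup.mk'_surjective _
      rcases hpure with hq | hq
      · refine ⟨0, fun x => ?_⟩
        obtain ⟨y, rfl⟩ := hker x
        apply kind_map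
        rw [kind_even (by decide)]
        obtain ⟨i, hi⟩ := hq ⟨y, htop ▸ mem_top y⟩
        obtain ⟨j, -, hj⟩ := (Nat.dvd_prime_pow hp.out).1
          (orderOf_dvd_of_pow_eq_one (show y ^ p ^ i = 1 from congrArg Subtype.val hi))
        exact ⟨j, hj⟩
      · refine ⟨1, fun x => ?_⟩
        obtain ⟨y, rfl⟩ := hker x
        apply kind_map
        rw [kind_odd (by decide)]
        intro hdvd
        rw [htop, card_top] at hq
        exact (hp.out.coprime_iff_not_dvd.1 hq.symm) (hdvd.trans (orderOf_dvd_natCard y))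
    · haveI : Nontrivial (X ⧸ N₀) := QuotientGroup.nontrivial_iff.2 htop
      have hlt : Nat.card (X ⧸ N₀) < n := by
        rw [← hn, card_eq_card_quotient_mul_card_subgroup N₀]
        have : 1 < Nat.card N₀ := (one_lt_card_iff_ne_bot N₀).2 hne
        nlinarith [Nat.card_pos (α := X ⧸ N₀)]
      obtain ⟨N, hN, hNt, k, hk⟩ := ih _ hlt (X ⧸ N₀) rfl (Thompson.isPSolvable_quotient N₀ hX)
      refine ⟨N.comap (QuotientGroup.mk' N₀), hN.comap _, fun h => hNt ?_, k, fun x => ?_⟩
      · rw [← map_comap_eq_self_of_surjective (QuotientGroup.mk'_surjective N₀) N, h]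
        exact map_top_of_surjective _ (QuotientGroup.mk'_surjective N₀)
      · obtain ⟨y, rfl⟩ := QuotientGroup.mk_surjective x
        obtain ⟨j, hj, hjy⟩ := exists_kind_lift (k := k)
          ((QuotientGroup.mk' N).comp (QuotientGroup.mk' N₀)) (x := y) (hk _)
        have hmem : y⁻¹ * y ^ j ∈ N.comap (QuotientGroup.mk' N₀) := by
          rw [mem_comap, map_mul, map_inv]
          exact QuotientGroup.eq.1 hjy.symm
        have : ((y : X) : X ⧸ N.comap (QuotientGroup.mk' N₀)) = ((y ^ j : X) : X ⧸ _) :=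
          QuotientGroup.eq.2 hmem
        rw [this]
        exact kind_map (QuotientGroup.mk' (N.comap (QuotientGroup.mk' N₀))) hj

/-- The series descends strictly in a `p`-soluble group. -/
theorem ser_add_two_lt {H : Subgroup G} (hH : Cfsg.IsPSolvable p H) {k : ℕ}
    (hne : ser p H k ≠ ⊥) : ser p H (k + 2) < ser p H k := by
  refine lt_of_le_of_ne ((ser_succ_le H (k + 1)).trans (ser_succ_le H k)) fun h => ?_
  set X := ser p H k with hX
  have h1 : ser p H (k + 1) = X :=
    le_antisymm (ser_succ_le H k) (h.ge.trans (ser_succ_le H (k + 1)))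
  haveI : Nontrivial ↥X := X.nontrivial_iff_ne_bot.2 hne
  have hXp : Cfsg.IsPSolvable p ↥X :=
    Thompson.isPSolvable_of_equiv (subgroupOfEquivOfLe (ser_le H k))
      (Thompson.isPSolvable_subgroup _ hH)
  obtain ⟨N, hN, hNt, j, hj⟩ := exists_proper_normal (p := p) _ ↥X rfl hXp
  have key : ∀ i, (∀ x : ↥X ⧸ N, Kind p (i + 1) x) →
      X = Subgroup.closure {x | x ∈ X ∧ Kind p i x} → False := by
    intro i hi hgen
    have hle : X ≤ N.map X.subtype := by
      conv_lhs => rw [hgen]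
      refine (Subgroup.closure_le _).2 fun x hx => ⟨⟨x, hx.1⟩, ?_, rfl⟩
      refine (QuotientGroup.eq_one_iff _).1 (eq_one_of_kind (k := i) ?_ (hi _))
      apply kind_map (QuotientGroup.mk' N)
      simpa [Kind, Subgroup.orderOf_mk] using hx.2
    exact hNt ((eq_top_iff' N).2 fun x => by
      obtain ⟨y, hy, hyx⟩ := hle x.2
      exact Subtype.ext hyx ▸ hy)
  have hg0 : X = Subgroup.closure {x | x ∈ X ∧ Kind p k x} := h1.symm
  have hg1 : X = Subgroup.closure {x | x ∈ X ∧ Kind p (k + 1) x} := by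
    have h2 : ser p H (k + 1 + 1) = X := h
    rw [show ser p H (k + 1 + 1) = Subgroup.closure {x | x ∈ ser p H (k + 1) ∧ Kind p (k + 1) x} from rfl,
      h1] at h2
    exact h2.symm
  by_cases hpar : Even j ↔ Even (k + 1)
  · exact key k (fun x => by simpa only [Kind, hpar] using hj x) hg0
  · refine key (k + 1) (fun x => ?_) hg1
    have : Even j ↔ Even (k + 1 + 1) := by
      rw [Nat.even_add_one (n := k + 1)]; tauto
    simpa only [Kind, this] using hj x

end Cfsg.Agent.Powell56
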