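import Cfsg.Agent.Powell56.Series
import Cfsg.Agent.Lib.Coprime.Action

/-!
# A nontrivial term of the lower `p`-series survives in a two-generated subgroup
-/

set_option autoImplicit false
set_option linter.style.haveILetI false

namespace Cfsg.Agent.Powell56

open Subgroup
open scoped commutatorElement

universe u

variable {p : ℕ} [hp : Fact p.Prime]

theorem card_of_kind {M : Type*} [Group M] [Finite M] {k : ℕ} {H : Subgroup M}
    (h : ∀ x ∈ H, Kind p k x) :
    (Even k → ∃ n, Nat.card ↥H = p ^ n) ∧ (¬ Even k → ¬ p ∣ Nat.card ↥H) := by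
  constructor
  · intro hk
    apply IsPGroup.iff_card.1
    intro x
    obtain ⟨n, hn⟩ := (kind_even hk _).1 (h x x.2)
    exact ⟨n, Subtype.ext (by rw [SubmonoidClass.coe_pow, ← hn, pow_orderOf_eq_one, OneMemClass.coe_one])⟩
  · intro hk hdvd
    obtain ⟨x, hx⟩ := exists_prime_orderOf_dvd_card' p hdvd
    exact (kind_odd hk _).1 (h x x.2) (by rw [Subgroup.orderOf_coe, hx])

theorem coprime_card_of_kind {M M' : Type*} [Group M] [Finite M] [Group M'] [Finite M'] {k : ℕ}
    {H : Subgroup M} {K : Subgroup M'} (hH : ∀ x ∈ H, Kind p k x)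
    (hK : ∀ x ∈ K, Kind p (k + 1) x) : (Nat.card ↥H).Coprime (Nat.card ↥K) := by
  by_cases hk : Even k
  · obtain ⟨n, hn⟩ := (card_of_kind hH).1 hk
    rw [hn]
    exact ((hp.out.coprime_iff_not_dvd.2 ((card_of_kind hK).2 (by simp [Nat.even_add_one, hk])))).pow_left n
  · obtain ⟨n, hn⟩ := (card_of_kind hK).1 (Nat.even_add_one.2 hk)
    rw [hn]
    exact ((hp.out.coprime_iff_not_dvd.2 ((card_of_kind hH).2 hk))).symm.pow_right n

theorem comm_of_minimal {M : Type*} [Group M] [Finite M] {V : Subgroup M} [V.Normal]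
    (hne : V ≠ ⊥) (hmin : ∀ N : Subgroup M, N.Normal → N ≠ ⊥ → V ≤ N) {q : ℕ} [Fact q.Prime]
    (hq : IsPGroup q ↥V) : IsMulCommutative ↥V := by
  haveI : Group.IsNilpotent ↥V := hq.isNilpotent
  haveI : Nontrivial ↥V := V.nontrivial_iff_ne_bot.2 hne
  have hlt : commutator ↥V < ⊤ := Group.IsSolvable.commutator_lt_top_of_nontrivial ↥V
  have h0 : ⁅V, V⁆ = ⊥ := by
    by_contra h
    have hle : V ≤ (commutator ↥V).map V.subtype := by
      rw [Subgroup.map_subtype_commutator]
      exact hmin _ inferInstance h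
    refine hlt.ne ((eq_top_iff' _).2 fun x => ?_)
    obtain ⟨y, hy, hyx⟩ := hle x.2
    exact Subtype.ext hyx ▸ hy
  refine ⟨⟨fun a b => Subtype.ext ?_⟩⟩
  exact commutatorElement_eq_one_iff_mul_comm.1
    (mem_bot.1 (h0 ▸ commutator_mem_commutator a.2 b.2))

set_option maxHeartbeats 1600000 in
theorem exists_two_gen_aux : ∀ (n : ℕ) (M : Type u) [Group M] [Finite M], Nat.card M = n →
    Cfsg.IsPSolvable p M → ∀ k : ℕ, ser p (⊤ : Subgroup M) k ≠ ⊥ →
      ∃ x y : M, ser p (Subgroup.closure ({x, y} : Set M)) k ≠ ⊥ := by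
  intro n
  induction n using Nat.strong_induction_on with
  | _ n ih =>
  intro M _ _ hn hM k hk
  by_contra hcon
  push Not at hcon
  rcases k with _ | _ | k
  · obtain ⟨x, hx, hx1⟩ := (Subgroup.bot_or_exists_ne_one _).resolve_left hk
    exact hx1 (mem_bot.1 (hcon x x ▸ Subgroup.subset_closure (by simp)))
  · obtain ⟨x, hx, hx1⟩ : ∃ x : M, Kind p 0 x ∧ x ≠ 1 := by
      by_contra h
      push Not at h
      exact hk ((Subgroup.closure_eq_bot_iff).2 fun x hx => h x hx.2)
    exact hx1 (mem_bot.1 (hcon x x ▸ mem_ser_succ (H := Subgroup.closure ({x, x} : Set M))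
      (Subgroup.subset_closure (by simp)) hx))
  have hcon' : ∀ a b : M, ser p (Subgroup.closure ({a, b} : Set M)) (k + 2) = ⊥ := hcon
  -- proper subgroups have a trivial term
  have hprop : ∀ H : Subgroup M, H ≠ ⊤ → ser p H (k + 2) = ⊥ := by
    intro H hH
    by_contra hne
    have hlt : Nat.card ↥H < n := hn ▸ lt_of_le_of_ne (card_le_card_group H)
      (fun h => hH (eq_top_of_card_eq H h))
    have htop : (⊤ : Subgroup ↥H).map H.subtype = H := by
      rw [← MonoidHom.range_eq_map, Subgroup.range_subtype]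
    obtain ⟨x, y, hxy⟩ := ih _ hlt ↥H rfl (Thompson.isPSolvable_subgroup H hM) (k + 2) (fun h => hne
      (by rw [← htop, ← map_ser, h, Subgroup.map_bot]))
    apply hxy
    have h1 := hcon x y
    rw [← Subgroup.map_eq_bot_iff_of_injective _ H.subtype_injective, map_ser,
      MonoidHom.map_closure, Set.image_pair]
    exact h1
  set U := ser p (⊤ : Subgroup M) k with hU
  set W := ser p (⊤ : Subgroup M) (k + 1) with hW
  set V := ser p (⊤ : Subgroup M) (k + 2) with hV
  have hnorm : ∀ j, (ser p (⊤ : Subgroup M) j).Normal := fun j => ⟨fun x hx g =>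
    conj_mem_ser (H := (⊤ : Subgroup M)) (by rw [normalizer_eq_top]; exact mem_top g) hx⟩
  haveI hVn : V.Normal := hnorm _
  haveI hWn : W.Normal := hnorm _
  have hmin : ∀ N : Subgroup M, N.Normal → N ≠ ⊥ → V ≤ N := by
    intro N hN hne
    have hlt : Nat.card (M ⧸ N) < n := by
      rw [← hn, card_eq_card_quotient_mul_card_subgroup N]
      have : 1 < Nat.card ↥N := (one_lt_card_iff_ne_bot N).2 hne
      nlinarith [Nat.card_pos (α := M ⧸ N)]
    by_contra hVN
    have hsur := QuotientGroup.mk'_surjective N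
    have h1 : ser p (⊤ : Subgroup (M ⧸ N)) (k + 2) ≠ ⊥ := by
      rw [← map_top_of_surjective _ hsur, ← map_ser, Ne, Subgroup.map_eq_bot_iff,
        QuotientGroup.ker_mk']
      exact hVN
    obtain ⟨a, b, hab⟩ := ih _ hlt (M ⧸ N) rfl (Thompson.isPSolvable_quotient N hM) (k + 2) h1
    obtain ⟨x, rfl⟩ := hsur a
    obtain ⟨y, rfl⟩ := hsur b
    apply hab
    rw [← Set.image_pair, ← MonoidHom.map_closure, ← map_ser, hcon x y, Subgroup.map_bot]
  haveI : Nontrivial M := by
    by_contra hh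
    rw [not_nontrivial_iff_subsingleton] at hh
    exact hk (Subsingleton.elim _ _)
  -- `V` is pure
  have hVk : ∀ x ∈ V, Kind p (k + 1) x := by
    obtain ⟨N, hN, hne, hpure⟩ := Thompson.exists_minimal_step_of_isPSolvable hM
    have hVN := hmin N hN hne
    obtain ⟨j, hj⟩ : ∃ j, ∀ x ∈ N, Kind p j x := by
      rcases hpure with hq | hq
      · refine ⟨0, fun x hx => (kind_even (by decide) x).2 ?_⟩
        obtain ⟨i, hi⟩ := hq ⟨x, hx⟩
        obtain ⟨l, -, hl⟩ := (Nat.dvd_prime_pow hp.out).1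
          (orderOf_dvd_of_pow_eq_one (show x ^ p ^ i = 1 from congrArg Subtype.val hi))
        exact ⟨l, hl⟩
      · refine ⟨1, fun x hx => (kind_odd (by decide) x).2 fun hdvd => ?_⟩
        exact hp.out.coprime_iff_not_dvd.1 hq.symm (hdvd.trans (orderOf_dvd_natCard N hx))
    by_cases hpar : Even j ↔ Even (k + 1)
    · intro x hx
      simpa only [Kind, hpar] using hj x (hVN hx)
    · exfalso
      apply hk
      refine (Subgroup.closure_eq_bot_iff).2 fun x hx => ?_
      refine eq_one_of_kind hx.2 ?_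
      have hpar' : Even j ↔ Even (k + 1 + 1) := by rw [Nat.even_add_one (n := k + 1)]; tauto
      simpa only [Kind, hpar'] using hj x (hVN (mem_ser_succ hx.1 hx.2))
  -- the quotient `W / V` is pure
  set π := QuotientGroup.mk' V with hπ
  have hWk : ∀ w ∈ W.map π, Kind p k w := fun w hw => by
    rw [← kind_add_two]
    refine kind_of_ser_eq_bot (H := (⊤ : Subgroup M).map π) (k := k + 1) ?_ ?_
    · rw [← map_ser, Subgroup.map_eq_bot_iff, hπ, QuotientGroup.ker_mk']
    · rwa [← map_ser]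
  have hcW : (Nat.card ↥(W.map π)).Coprime (Nat.card ↥V) := coprime_card_of_kind hWk hVk
  have hVW : V ≤ W := ser_succ_le _ _
  have hindex : (V.subgroupOf W).index = Nat.card ↥(W.map π) := by
    rw [← Thompson.relIndex_eq_card_map_mk' V W]; rfl
  obtain ⟨T', hT'⟩ := Subgroup.exists_right_complement'_of_coprime (N := V.subgroupOf W) (by
    rw [hindex, Nat.card_congr (subgroupOfEquivOfLe hVW).toEquiv]; exact hcW.symm)
  set T := T'.map W.subtype with hT
  have hTW : T ≤ W := map_subtype_le _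
  have hTV : ∀ x ∈ T, x ∈ V → x = 1 := by
    rintro _ ⟨x, hx, rfl⟩ hxV
    have := mem_bot.1 (hT'.disjoint.le_bot ⟨hxV, hx⟩)
    simp [this]
  have hTcard : Nat.card ↥T = Nat.card ↥(W.map π) := by
    rw [hT, Subgroup.card_map_of_injective W.subtype_injective, ← hindex, hT'.symm.index_eq_card]
  have hTsup : ∀ w ∈ W, ∃ v ∈ V, ∃ t ∈ T, v * t = w := fun w hw => by
    obtain ⟨v, hv, t, ht, h⟩ : ∃ v ∈ V.subgroupOf W, ∃ t ∈ T', v * t = (⟨w, hw⟩ : ↥W) := by
      obtain ⟨⟨v, t⟩, h⟩ := hT'.2 ⟨w, hw⟩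
      exact ⟨v, v.2, t, t.2, h⟩
    exact ⟨v, hv, t, ⟨t, ht, rfl⟩, congrArg Subtype.val h⟩
  have hTk : ∀ x ∈ T, Kind p k x := fun x hx => by
    obtain ⟨j, hj, hjx⟩ := exists_kind_lift π (hWk _ (mem_map_of_mem π (hTW hx)))
    have h1 : x⁻¹ * x ^ j ∈ V := QuotientGroup.eq.1 hjx.symm
    have h2 := hTV _ (mul_mem (inv_mem hx) (pow_mem hx j)) h1
    rwa [← inv_mul_eq_one.1 h2] at hj
  have hTcop : (Nat.card ↥T).Coprime (Nat.card ↥V) := hTcard ▸ hcW
  have hTne : T ≠ ⊥ := fun h => by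
    apply hk
    refine (Subgroup.closure_eq_bot_iff).2 fun x hx => ?_
    obtain ⟨v, hv, t, ht, rfl⟩ := hTsup x hx.1
    rw [h, mem_bot] at ht
    subst ht
    rw [mul_one] at hx ⊢
    have : W ≤ V := fun w hw => by
      obtain ⟨v', hv', t', ht', rfl⟩ := hTsup w hw
      rw [h, mem_bot] at ht'
      rwa [ht', mul_one]
    have hWbot : W = ⊥ := (Subgroup.closure_eq_bot_iff).2 fun y hy =>
      eq_one_of_kind hy.2 (hVk y (this (mem_ser_succ hy.1 hy.2)))
    exact mem_bot.1 (hWbot ▸ hx.1)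
  -- `T` is not normal
  have hTn : ¬ T.Normal := fun hTn => by
    have h1 := hmin T hTn hTne
    exact hk (eq_bot_iff.2 fun x hx => mem_bot.2 (hTV x (h1 hx) hx))
  -- `T` does not centralise `V`
  have hTC : ¬ T ≤ centralizer (V : Set M) := fun hTC => hTn ⟨fun t ht g => by
    obtain ⟨v, hv, t', ht', h⟩ := hTsup _ (hWn.conj_mem t (hTW ht) g)
    have hcomm : Commute v t' := mem_centralizer_iff.1 (hTC ht') v hv
    have h1 : (v * t') ^ Nat.card ↥T = 1 := by
      rw [h, conj_pow, show t ^ Nat.card ↥T = 1 from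
        orderOf_dvd_iff_pow_eq_one.1 (orderOf_dvd_natCard T ht)]
      simp
    rw [hcomm.mul_pow, orderOf_dvd_iff_pow_eq_one.1 (orderOf_dvd_natCard T ht'), mul_one] at h1
    have h2 : orderOf v = 1 := Nat.eq_one_of_dvd_coprimes hTcop (orderOf_dvd_of_pow_eq_one h1)
      (orderOf_dvd_natCard V hv)
    rw [← h, orderOf_eq_one_iff.1 h2, one_mul]
    exact ht'⟩
  -- `V` is abelian
  haveI hab : IsMulCommutative ↥V := by
    by_cases hk' : Even k
    swap
    · exact comm_of_minimal hk hmin (IsPGroup.iff_card.2 ((card_of_kind hVk).1 (Nat.even_add_one.2 hk')))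
    have hTp : IsPGroup p ↥T := IsPGroup.iff_card.2 ((card_of_kind hTk).1 hk')
    haveI : Group.IsNilpotent ↥T := hTp.isNilpotent
    have hTsol : Group.IsSolvable ↥T := inferInstance
    have hTNV : T ≤ normalizer (V : Set M) := by rw [normalizer_eq_top]; exact le_top
    by_contra hnab
    apply hTC
    -- every invariant Sylow subgroup is centralised
    have hall : ∀ q : ℕ, q.Prime → ∃ Q : Sylow q ↥V,
        (Q : Subgroup ↥V).map V.subtype ≤ centralizer (T : Set M) := by
      intro q hq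
      haveI := Fact.mk hq
      obtain ⟨Q, hQ⟩ := Coprime.exists_invariant_sylow T V hTNV hTcop (Or.inl hTsol) q
      refine ⟨Q, ?_⟩
      set Q' := (Q : Subgroup ↥V).map V.subtype with hQ'
      by_contra hQC
      set N := normalizer (Q' : Set M) with hN
      have hQV : Q' ≤ V := map_subtype_le _
      by_cases hNtop : N = ⊤
      · haveI : Q'.Normal := normalizer_eq_top_iff.1 hNtop
        have hne : Q' ≠ ⊥ := fun h => hQC (h ▸ bot_le)
        have hQ'p : IsPGroup q ↥Q' := Q.2.map V.subtype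
        exact hnab (comm_of_minimal hk hmin (hQ'p.to_le (hmin Q' inferInstance hne)))
      have hbot := hprop N hNtop
      have hNmap : N.map π = (⊤ : Subgroup M).map π := by
        refine le_antisymm (map_mono le_top) ?_
        rw [← Sylow.normalizer_sup_eq_top Q, Subgroup.map_sup]
        exact sup_le le_rfl ((Subgroup.map_eq_bot_iff _).2 (by rw [hπ, QuotientGroup.ker_mk'] ) |>.le.trans bot_le)
      set R := ser p N (k + 1) with hR
      have hTR : T ≤ R := by
        intro t ht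
        have h1 : π t ∈ R.map π := by
          rw [hR, map_ser, hNmap, ← map_ser]
          exact mem_map_of_mem π (hTW ht)
        obtain ⟨s, hs, hst⟩ := h1
        have hv : s⁻¹ * t ∈ V := QuotientGroup.eq.1 hst
        set v := s⁻¹ * t with hvdef
        have hvN : v ∈ N := mul_mem (inv_mem (ser_le N _ hs)) (hQ ht)
        haveI : (R.subgroupOf N).Normal := ⟨fun x hx g => by
          rw [mem_subgroupOf] at hx ⊢
          exact conj_mem_ser (le_normalizer g.2) hx⟩
        set f := QuotientGroup.mk' (R.subgroupOf N)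
        have hfv : f ⟨v, hvN⟩ = f ⟨t, hQ ht⟩ := by
          refine QuotientGroup.eq.2 ?_
          show v⁻¹ * t ∈ R
          rw [hvdef, mul_inv_rev, inv_inv, mul_assoc]
          have : t⁻¹ * (s * t) = (t⁻¹ * s * t) := by group
          rw [this]
          have h2 := conj_mem_ser (H := N) (le_normalizer (inv_mem (hQ ht))) hs
          simpa [inv_inv] using h2
        have h2 : f ⟨t, hQ ht⟩ = 1 := orderOf_eq_one_iff.1 (Nat.eq_one_of_dvd_coprimes hTcop
          (((orderOf_map_dvd f _).trans (dvd_of_eq (Subgroup.orderOf_mk t _))).trans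
            (orderOf_dvd_natCard T ht))
          (hfv ▸ ((orderOf_map_dvd f _).trans (dvd_of_eq (Subgroup.orderOf_mk v _))).trans
            (orderOf_dvd_natCard V hv)))
        exact (QuotientGroup.eq_one_iff (⟨t, hQ ht⟩ : ↥N)).1 h2
      apply hQC
      intro q' hq'
      rw [mem_centralizer_iff]
      intro t ht
      have hq'N : q' ∈ N := le_normalizer hq'
      have hcV : ⁅t, q'⁆ ∈ V := by
        rw [commutatorElement_def]
        exact mul_mem (hVn.conj_mem _ (hQV hq') t) (inv_mem (hQV hq'))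
      have hcR : ⁅t, q'⁆ ∈ R := by
        rw [commutatorElement_def, mul_assoc, mul_assoc]
        refine mul_mem (hTR ht) ?_
        have := conj_mem_ser (H := N) (le_normalizer hq'N) (inv_mem (hTR ht))
        simpa [mul_assoc] using this
      exact commutatorElement_eq_one_iff_mul_comm.1
        (mem_bot.1 (hbot ▸ mem_ser_succ hcR (hVk _ hcV)))
    have hdvd : Nat.card ↥V ∣ Nat.card ↥(centralizer (T : Set M) ⊓ V : Subgroup M) := by
      refine (Nat.dvd_iff_prime_pow_dvd_dvd _ _).2 fun q e hq he => ?_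
      haveI := Fact.mk hq
      obtain ⟨Q, hQ⟩ := hall q hq
      refine dvd_trans (pow_dvd_pow q ((hq.pow_dvd_iff_le_factorization Nat.card_pos.ne').1 he)) ?_
      rw [← Q.card_eq_multiplicity, ← Subgroup.card_map_of_injective V.subtype_injective]
      exact card_dvd_of_le (le_inf hQ (map_subtype_le _))
    have hCV : centralizer (T : Set M) ⊓ V = V := eq_of_le_of_card_ge inf_le_right
      (Nat.le_of_dvd Nat.card_pos hdvd)
    exact le_centralizer_iff.1 (hCV ▸ inf_le_left)
  -- a complement of `V`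
  set X := normalizer (T : Set M) with hX
  have hVN : ∀ H : Subgroup M, H ≤ normalizer (V : Set M) := fun H => by
    rw [normalizer_eq_top]; exact le_top
  have hWVT : ∀ H : Subgroup M, H ≤ W → H ≤ V ⊔ T := fun H hH x hx => by
    obtain ⟨v, hv, t, ht, rfl⟩ := hTsup x (hH hx)
    exact mul_mem_sup hv ht
  have hconj : ∀ H : Subgroup M, H ≤ W → (Nat.card ↥H).Coprime (Nat.card ↥V) →
      ∃ v ∈ V, ∀ h ∈ H, v * h * v⁻¹ ∈ T := fun H hH hc =>
    Coprime.exists_conj_le_of_comm V H T (hVN H) (hVN T) (hWVT H hH) hc hTcop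
  have hdec : ∀ g : M, ∃ v ∈ V, ∃ x ∈ X, v * x = g := by
    intro g
    set H := T.map (MulAut.conj g).toMonoidHom with hH
    obtain ⟨v, hv, hvH⟩ := hconj H (map_le_iff_le_comap.2 fun t ht => hWn.conj_mem t (hTW ht) g)
      (by rw [hH, Subgroup.card_map_of_injective (MulAut.conj g).injective]; exact hTcop)
    refine ⟨v⁻¹, inv_mem hv, v * g, ?_, by group⟩
    refine Subgroup.mem_normalizer_iff_map_conj_eq.2 (eq_of_le_of_card_ge ?_ ?_)
    · rintro _ ⟨t, ht, rfl⟩
      have := hvH _ (mem_map_of_mem _ ht)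
      simpa [mul_assoc] using this
    · exact (Subgroup.card_map_of_injective (MulAut.conj (v * g)).injective).ge
  have hnormal_of : ∀ S : Subgroup M, (∀ v ∈ V, ∀ s ∈ S, v * s * v⁻¹ ∈ S) →
      (∀ x ∈ X, ∀ s ∈ S, x * s * x⁻¹ ∈ S) → S.Normal := fun S h1 h2 => ⟨fun s hs g => by
    obtain ⟨v, hv, x, hx, rfl⟩ := hdec g
    have := h1 v hv _ (h2 x hx s hs)
    simpa [mul_assoc] using this⟩
  have hVcomm : ∀ a ∈ V, ∀ b ∈ V, a * b = b * a := fun a ha b hb =>
    congrArg Subtype.val (mul_comm' (⟨a, ha⟩ : ↥V) ⟨b, hb⟩)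
  have hXne : X ≠ ⊤ := fun h => hTn (normalizer_eq_top_iff.1 h)
  have hXV : ∀ x ∈ X, x ∈ V → x = 1 := by
    by_contra h
    push Not at h
    obtain ⟨x, hx, hxV, hx1⟩ := h
    have hN : (X ⊓ V).Normal := hnormal_of _ (fun v hv s hs => by
      rw [hVcomm v hv s hs.2, mul_assoc, mul_inv_cancel, mul_one]; exact hs)
      (fun y hy s hs => ⟨X.mul_mem (X.mul_mem hy hs.1) (X.inv_mem hy), hVn.conj_mem s hs.2 y⟩)
    have hle : V ≤ X ⊓ V := hmin _ hN fun h => hx1 (mem_bot.1 (h ▸ ⟨hx, hxV⟩))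
    exact hXne ((eq_top_iff' _).2 fun g => by
      obtain ⟨v, hv, y, hy, rfl⟩ := hdec g
      exact mul_mem (hle hv).1 hy)
  have hXC : ∀ x ∈ X, x ∈ centralizer (V : Set M) → x = 1 := by
    by_contra h
    push Not at h
    obtain ⟨x, hx, hxV, hx1⟩ := h
    have hN : (X ⊓ centralizer (V : Set M)).Normal := hnormal_of _ (fun v hv s hs => by
      rw [mem_centralizer_iff.1 hs.2 v hv, mul_assoc, mul_inv_cancel, mul_one]; exact hs)
      (fun y hy s hs => ⟨X.mul_mem (X.mul_mem hy hs.1) (X.inv_mem hy),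
        Subgroup.Normal.conj_mem inferInstance s hs.2 y⟩)
    have hle : V ≤ X ⊓ centralizer (V : Set M) := hmin _ hN fun h => hx1 (mem_bot.1 (h ▸ ⟨hx, hxV⟩))
    exact hk (eq_bot_iff.2 fun v hv => mem_bot.2 (hXV v (hle hv).1 hv))
  -- the complement is two-generated
  have hXmap : X.map π = (⊤ : Subgroup M).map π := by
    refine le_antisymm (map_mono le_top) (map_le_iff_le_comap.2 fun g _ => ?_)
    obtain ⟨v, hv, x, hx, rfl⟩ := hdec g
    exact ⟨x, hx, by rw [map_mul, show π v = 1 from (QuotientGroup.eq_one_iff v).2 hv, one_mul]⟩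
  have hserX : ser p X (k + 1) ≠ ⊥ := fun h => by
    apply hTne
    refine eq_bot_iff.2 fun t ht => mem_bot.2 (hTV t ht ?_)
    have h1 : π t ∈ (ser p X (k + 1)).map π := by
      rw [map_ser, hXmap, ← map_ser]; exact mem_map_of_mem π (hTW ht)
    rw [h, Subgroup.map_bot, mem_bot] at h1
    exact (QuotientGroup.eq_one_iff t).1 h1
  have hXlt : Nat.card ↥X < n := hn ▸ lt_of_le_of_ne (card_le_card_group X)
    (fun h => hXne (eq_top_of_card_eq X h))
  obtain ⟨x₀, y₀, hxy⟩ := ih _ hXlt ↥X rfl (Thompson.isPSolvable_subgroup X hM) (k + 1)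
    (fun h => hserX (by
      have htop : (⊤ : Subgroup ↥X).map X.subtype = X := by
        rw [← MonoidHom.range_eq_map, Subgroup.range_subtype]
      rw [← htop, ← map_ser, h, Subgroup.map_bot]))
  set x : M := (x₀ : M) with hxdef
  set y : M := (y₀ : M) with hydef
  set X₀ := Subgroup.closure ({x, y} : Set M) with hX₀
  have hX₀ne : ser p X₀ (k + 1) ≠ ⊥ := fun h => hxy (by
    rw [← Subgroup.map_eq_bot_iff_of_injective _ X.subtype_injective, map_ser,
      MonoidHom.map_closure, Set.image_pair]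
    exact h)
  have hX₀X : X₀ ≤ X := (Subgroup.closure_le _).2 (by
    rintro z (rfl | rfl) <;> exact SetLike.coe_mem _)
  have hgen : X ≤ X₀ := by
    have hYtop : V ⊔ X₀ = ⊤ := by
      by_contra hY
      have hbot := hprop _ hY
      refine hX₀ne (eq_bot_iff.2 fun m hm => mem_bot.2 (hXC m (hX₀X (ser_le _ _ hm)) ?_))
      rw [mem_centralizer_iff]
      intro v hv
      have hmY : m ∈ ser p (V ⊔ X₀) (k + 1) := ser_mono le_sup_right _ hm
      have hcV : ⁅m, v⁆ ∈ V := by
        rw [commutatorElement_def]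
        exact mul_mem (hVn.conj_mem v hv m) (inv_mem hv)
      have hcR : ⁅m, v⁆ ∈ ser p (V ⊔ X₀) (k + 1) := by
        rw [commutatorElement_def, mul_assoc, mul_assoc]
        refine mul_mem hmY ?_
        have := conj_mem_ser (H := V ⊔ X₀) (le_normalizer (mem_sup_left hv)) (inv_mem hmY)
        simpa [mul_assoc] using this
      exact (commutatorElement_eq_one_iff_mul_comm.1
        (mem_bot.1 (hbot ▸ mem_ser_succ hcR (hVk _ hcV)))).symm
    intro z hz
    obtain ⟨v, hv, w, hw, h⟩ : ∃ v ∈ V, ∃ w ∈ X₀, v * w = z := by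
      have hz' : z ∈ ((V ⊔ X₀ : Subgroup M) : Set M) := by rw [hYtop]; trivial
      rw [Subgroup.normal_mul V X₀] at hz'
      exact Set.mem_mul.1 hz'
    have hvX : v ∈ X := by
      have : v = z * w⁻¹ := by rw [← h, mul_inv_cancel_right]
      rw [this]; exact mul_mem hz (inv_mem (hX₀X hw))
    rw [← h, hXV v hvX hv, one_mul]; exact hw
  -- all lifts generate complements
  have hlift : ∀ v ∈ V, ∀ w ∈ V, ∃ u ∈ V, u * x * u⁻¹ * x⁻¹ = v ∧ u * y * u⁻¹ * y⁻¹ = w := by
    intro v hv w hw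
    set L := Subgroup.closure ({v * x, w * y} : Set M) with hL
    have hLV : V ⊔ L = ⊤ := by
      refine (eq_top_iff' _).2 fun g => ?_
      obtain ⟨a, ha, b, hb, rfl⟩ := hdec g
      refine mul_mem (mem_sup_left ha) (?_ : b ∈ V ⊔ L)
      have hle : X₀ ≤ V ⊔ L := (Subgroup.closure_le _).2 (by
        rintro z (rfl | rfl)
        · have h1 : v⁻¹ * (v * x) ∈ V ⊔ L :=
            mul_mem_sup (inv_mem hv) (Subgroup.subset_closure (by simp))
          simpa using h1
        · have h1 : w⁻¹ * (w * y) ∈ V ⊔ L :=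
            mul_mem_sup (inv_mem hw) (Subgroup.subset_closure (by simp))
          simpa using h1)
      exact hle (hgen hb)
    have hLsplit : ∀ g : M, ∃ a ∈ V, ∃ l ∈ L, a * l = g := fun g => by
      have hz' : g ∈ ((V ⊔ L : Subgroup M) : Set M) := by rw [hLV]; trivial
      rw [Subgroup.normal_mul V L] at hz'
      exact Set.mem_mul.1 hz'
    have hLne : L ≠ ⊤ := fun h => by
      have h1 : ser p L (k + 2) = ⊥ := hcon' (v * x) (w * y)
      rw [h] at h1
      exact hk (hV.trans h1)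
    have hLV0 : ∀ z ∈ L, z ∈ V → z = 1 := by
      by_contra h
      push Not at h
      obtain ⟨z, hz, hzV, hz1⟩ := h
      have hN : (L ⊓ V).Normal := ⟨fun s hs g => by
        obtain ⟨a, ha, l, hl, rfl⟩ := hLsplit g
        have h1 : l * s * l⁻¹ ∈ L ⊓ V :=
          ⟨L.mul_mem (L.mul_mem hl hs.1) (L.inv_mem hl), hVn.conj_mem s hs.2 l⟩
        rw [show a * l * s * (a * l)⁻¹ = a * (l * s * l⁻¹) * a⁻¹ by group,
          hVcomm a ha _ h1.2, mul_assoc, mul_inv_cancel, mul_one]
        exact h1⟩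
      have hle : V ≤ L ⊓ V := hmin _ hN fun h => hz1 (mem_bot.1 (h ▸ ⟨hz, hzV⟩))
      exact hLne (top_le_iff.1 (hLV.ge.trans (sup_le (hle.trans inf_le_left) le_rfl)))
    set T₂ := L ⊓ W with hT₂
    have hT₂card : Nat.card ↥T₂ = Nat.card ↥T := by
      rw [hTcard]
      refine Nat.card_eq_of_bijective
        (fun z : ↥T₂ => (⟨π z, mem_map_of_mem π z.2.2⟩ : ↥(W.map π))) ⟨fun a b h => ?_, ?_⟩
      · have h1 : π (a : M) = π (b : M) := congrArg Subtype.val h
        exact Subtype.ext (inv_mul_eq_one.1 (hLV0 _ (mul_mem (inv_mem a.2.1) b.2.1)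
          (QuotientGroup.eq.1 h1)))
      · rintro ⟨_, z, hz, rfl⟩
        obtain ⟨a, ha, l, hl, rfl⟩ := hLsplit z
        exact ⟨⟨l, hl, by simpa using mul_mem (inv_mem (hVW ha)) hz⟩, Subtype.ext (by
          show π l = π (a * l)
          rw [map_mul, show π a = 1 from (QuotientGroup.eq_one_iff a).2 ha, one_mul])⟩
    obtain ⟨m, hm, hmT⟩ := hconj T₂ inf_le_right (hT₂card ▸ hTcop)
    have hmap : T₂.map (MulAut.conj m).toMonoidHom = T := eq_of_le_of_card_ge
      (by rintro _ ⟨t, ht, rfl⟩; exact hmT t ht)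
      ((Subgroup.card_map_of_injective (MulAut.conj m).injective).trans hT₂card).ge
    have hLX : ∀ l ∈ L, m * l * m⁻¹ ∈ X := fun l hl => by
      refine Subgroup.mem_normalizer_iff_map_conj_eq.2 (eq_of_le_of_card_ge ?_
        (Subgroup.card_map_of_injective (MulAut.conj (m * l * m⁻¹)).injective).ge)
      rintro _ ⟨t, ht, rfl⟩
      rw [SetLike.mem_coe, ← hmap] at ht
      obtain ⟨s, hs, rfl⟩ := ht
      rw [← hmap]
      refine ⟨l * s * l⁻¹, ⟨L.mul_mem (L.mul_mem hl hs.1) (L.inv_mem hl), hWn.conj_mem s hs.2 l⟩, ?_⟩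
      simp [mul_assoc]
    have key : ∀ a ∈ V, ∀ z ∈ X, a * z ∈ L → m⁻¹ * z * (m⁻¹)⁻¹ * z⁻¹ = a := by
      intro a ha z hz haz
      have h1 := hLX _ haz
      have h2 : m * (a * z) * m⁻¹ * z⁻¹ = 1 := by
        refine hXV _ (mul_mem h1 (inv_mem hz)) ?_
        rw [show m * (a * z) * m⁻¹ * z⁻¹ = m * a * (z * m⁻¹ * z⁻¹) by group]
        exact mul_mem (mul_mem hm ha) (hVn.conj_mem _ (inv_mem hm) z)
      calc m⁻¹ * z * (m⁻¹)⁻¹ * z⁻¹ = m⁻¹ * (m * (a * z) * m⁻¹) * m * z⁻¹ := by
            rw [mul_inv_eq_one.1 h2, inv_inv]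
        _ = a := by group
    exact ⟨m⁻¹, inv_mem hm,
      key v hv x (hX₀X (Subgroup.subset_closure (by simp))) (Subgroup.subset_closure (by simp)),
      key w hw y (hX₀X (Subgroup.subset_closure (by simp))) (Subgroup.subset_closure (by simp))⟩
  let Φ : ↥V → ↥V × ↥V := fun u =>
    (⟨(u : M) * x * (u : M)⁻¹ * x⁻¹, by
        rw [show (u : M) * x * (u : M)⁻¹ * x⁻¹ = u * (x * (u : M)⁻¹ * x⁻¹) by group]
        exact mul_mem u.2 (hVn.conj_mem _ (inv_mem u.2) x)⟩,
      ⟨(u : M) * y * (u : M)⁻¹ * y⁻¹, by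
        rw [show (u : M) * y * (u : M)⁻¹ * y⁻¹ = u * (y * (u : M)⁻¹ * y⁻¹) by group]
        exact mul_mem u.2 (hVn.conj_mem _ (inv_mem u.2) y)⟩)
  have hsurj : Function.Surjective Φ := by
    rintro ⟨⟨v, hv⟩, ⟨w, hw⟩⟩
    obtain ⟨u, hu, h1, h2⟩ := hlift v hv w hw
    exact ⟨⟨u, hu⟩, Prod.ext (Subtype.ext h1) (Subtype.ext h2)⟩
  have hle := Nat.card_le_card_of_surjective Φ hsurj
  rw [Nat.card_prod] at hle
  have h1 : 1 < Nat.card ↥V := (one_lt_card_iff_ne_bot V).2 hk
  nlinarith

/-- Some two-generated subgroup of a `p`-soluble group has the term nontrivial. -/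
theorem exists_two_gen {G : Type u} [Group G] [Finite G] (H : Subgroup G)
    (hH : Cfsg.IsPSolvable p ↥H) {k : ℕ} (h : ser p H k ≠ ⊥) :
    ∃ x y : G, ser p (Subgroup.closure ({x, y} : Set G)) k ≠ ⊥ := by
  have htop : (⊤ : Subgroup ↥H).map H.subtype = H := by
    rw [← MonoidHom.range_eq_map, Subgroup.range_subtype]
  obtain ⟨x, y, hxy⟩ := exists_two_gen_aux _ ↥H rfl hH k
    (fun hb => h (by rw [← htop, ← map_ser, hb, Subgroup.map_bot]))
  refine ⟨x, y, fun hb => hxy ?_⟩
  rw [← Subgroup.map_eq_bot_iff_of_injective _ H.subtype_injective, map_ser,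
    MonoidHom.map_closure, Set.image_pair]
  exact hb

end Cfsg.Agent.Powell56
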